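import Groth.Agent.FCx40.Rank
import Mathlib.RingTheory.LocalRing.ResidueField.Ideal

namespace Groth.Agent.FCx40

open CategoryTheory TensorProduct LinearMap
open Function (Surjective Injective Exact Bijective)

universe u

variable {A : Type u} [CommRing A]

theorem exists_fib_le (M : Type u) [AddCommGroup M] [Module A M] [Module.Finite A M] :
    ∃ N : ℕ, ∀ x : PrimeSpectrum A, fib M x ≤ N := by
  obtain ⟨n, f, hf⟩ := Module.Finite.exists_fin' A M
  refine ⟨n, fun x => ?_⟩
  have : Nontrivial A := PrimeSpectrum.nonempty_iff_nontrivial.mp ⟨x⟩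
  refine (LinearMap.finrank_le_finrank_of_surjective (f := f.baseChange x.asIdeal.ResidueField)
    (LinearMap.lTensor_surjective x.asIdeal.ResidueField hf)).trans ?_
  rw [Module.finrank_baseChange, Module.finrank_fin_fun]

theorem isLocallyConstant_fib (M : Type u) [AddCommGroup M] [Module A M] [Module.Flat A M]
    [Module.FinitePresentation A M] : IsLocallyConstant (fib (A := A) M) := by
  rw [show fib (A := A) M = Module.rankAtStalk M from funext (fib_eq_rankAtStalk M)]
  exact Module.isLocallyConstant_rankAtStalk

theorem upperSemicontinuous_of_add_eq {X : Type*} [TopologicalSpace X] {d n c : X → ℕ}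
    (hc : UpperSemicontinuous c) (hn : IsLocallyConstant n) (h : ∀ x, d x + n x = c x) :
    UpperSemicontinuous d := by
  rw [upperSemicontinuous_iff]
  intro x
  rw [upperSemicontinuousAt_iff]
  intro y hy
  have hlt : c x < y + n x := by have := h x; omega
  have h1 := upperSemicontinuousAt_iff.mp (upperSemicontinuous_iff.mp hc x) _ hlt
  filter_upwards [h1, hn.eventually_eq x] with z hz hz'
  have := h z
  omega

theorem upperSemicontinuous_add_nat {X : Type*} [TopologicalSpace X] {f g : X → ℕ}
    (hf : UpperSemicontinuous f) (hg : UpperSemicontinuous g) : UpperSemicontinuous fun x => f x + g x := by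
  rw [upperSemicontinuous_iff]
  intro x
  rw [upperSemicontinuousAt_iff]
  intro y hy
  filter_upwards [upperSemicontinuousAt_iff.mp (upperSemicontinuous_iff.mp hf x) _ (Nat.lt_succ_self _),
    upperSemicontinuousAt_iff.mp (upperSemicontinuous_iff.mp hg x) _ (Nat.lt_succ_self _)] with z hz hz'
  show f z + g z < y
  omega

theorem eventually_eq_of_usc_of_add_eq {X : Type*} [TopologicalSpace X] {f g : X → ℕ} {z : X}
    (hf : UpperSemicontinuous f) (hg : UpperSemicontinuous g)
    (h : ∀ᶠ x in nhds z, f x + g x = f z + g z) : (∀ᶠ x in nhds z, f x = f z) ∧ ∀ᶠ x in nhds z, g x = g z := by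
  have h1 := upperSemicontinuousAt_iff.mp (upperSemicontinuous_iff.mp hf z) _ (Nat.lt_succ_self _)
  have h2 := upperSemicontinuousAt_iff.mp (upperSemicontinuous_iff.mp hg z) _ (Nat.lt_succ_self _)
  constructor
  · filter_upwards [h, h1, h2] with x hx hx1 hx2; omega
  · filter_upwards [h, h1, h2] with x hx hx1 hx2; omega

variable {P : ChainComplex (ModuleCat.{u} A) ℤ}

theorem upperSemicontinuous_dRank [IsNoetherianRing A]
    (hP : ∀ i, Module.Finite A (P.X i) ∧ Module.Flat A (P.X i)) (p : ℤ) :
    UpperSemicontinuous (CohIII.dRank P p) := by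
  have := (hP p).1
  have := (hP (p - 1)).1
  have := (hP (p - 1)).2
  have : Module.FinitePresentation A (P.X (p - 1)) := Module.finitePresentation_of_finite A _
  exact upperSemicontinuous_of_add_eq
    (upperSemicontinuous_add_nat (upperSemicontinuous_fib _) (upperSemicontinuous_fib _))
    (isLocallyConstant_fib (P.X (p - 1)))
    (fun x => dRank_add (fun i => (hP i).1) (sub_add_cancel p 1) rfl x)

/-- Rank functions are compatible with base change. -/
theorem dRank_bcCx {A' : Type u} [CommRing A'] [Algebra A A'] (P : ChainComplex (ModuleCat.{u} A) ℤ) (p : ℤ)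
    (x' : PrimeSpectrum A') :
    CohIII.dRank (CohIII.bcCx (algebraMap A A') P) p x' =
      CohIII.dRank P p (PrimeSpectrum.comap (algebraMap A A') x') := by
  let x := PrimeSpectrum.comap (algebraMap A A') x'
  let k := x.asIdeal.ResidueField
  let k' := x'.asIdeal.ResidueField
  let m : k →+* k' := Ideal.ResidueField.map x.asIdeal x'.asIdeal (algebraMap A A') rfl
  have hm : m.comp (algebraMap A k) = (algebraMap A' k').comp (algebraMap A A') :=
    RingHom.ext fun a => Ideal.ResidueField.map_algebraMap x.asIdeal x'.asIdeal (algebraMap A A') rfl a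
  let _ : Algebra k k' := m.toAlgebra
  let Q := CohIII.bcCx (algebraMap A k) P
  have e : CohIII.bcCx (algebraMap A' k') (CohIII.bcCx (algebraMap A A') P) ≅ CohIII.bcCx (algebraMap k k') Q :=
    bcCompIso _ _ P ≪≫ eqToIso (congrArg (fun φ => CohIII.bcCx φ P) hm.symm) ≪≫ (bcCompIso _ _ P).symm
  have h1 : CohIII.dRank (CohIII.bcCx (algebraMap A A') P) p x' =
      Module.finrank k' ((CohIII.bcCx (algebraMap k k') Q).homology p) :=
    LinearEquiv.finrank_eq ((HomologicalComplex.homologyMapIso e p).toLinearEquiv)
  have h2 := (bcEquiv k' Q (sub_add_cancel p 1) (lTensor_ker_of_flat _ _)).finrank_eq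
  rw [h1, ← h2, Module.finrank_baseChange]
  rfl

end Groth.Agent.FCx40
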