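import Groth.Agent.FCx40.TF

namespace Groth.Agent.FCx40

open CategoryTheory CategoryTheory.Limits TensorProduct LinearMap MonoidalCategory
open Function (Surjective Injective Exact Bijective)

universe u

variable {A : Type u} [CommRing A] {P : ChainComplex (ModuleCat.{u} A) ℤ} {p q r : ℤ}

/-- The homology sits in the cokernel of the incoming differential with quotient the image of the outgoing one. -/
theorem exists_homology_coker_seq (hpq : q + 1 = p) (hpr : p + 1 = r) :
    ∃ (g : P.homology p →ₗ[A] (P.X p ⧸ range (P.d r p).hom))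
      (f : (P.X p ⧸ range (P.d r p).hom) →ₗ[A] range (P.d p q).hom),
      Injective g ∧ Exact g f ∧ Surjective f ∧
        (∀ z, g (pcls P p q hpq z) = Submodule.Quotient.mk (z : P.X p)) ∧
        ∀ x, f (Submodule.Quotient.mk x) = (P.d p q).hom.rangeRestrict x := by
  have hle : range (P.d r p).hom ≤ ker ((P.d p q).hom.rangeRestrict) := by
    rw [ker_rangeRestrict]
    rintro _ ⟨x, rfl⟩
    exact d_mem_ker x
  let e := (pcls P p q hpq).quotKerEquivOfSurjective (pcls_surjective hpq)
  let g₀ : (ker (P.d p q).hom ⧸ ker (pcls P p q hpq)) →ₗ[A] (P.X p ⧸ range (P.d r p).hom) :=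
    Submodule.mapQ _ _ (ker (P.d p q).hom).subtype (by rw [ker_pcls hpq hpr])
  have hg₀ : Injective g₀ := by
    rw [← LinearMap.ker_eq_bot, Submodule.ker_mapQ, ← ker_pcls hpq hpr, Submodule.mkQ_map_self]
  have he : ∀ z, e.symm (pcls P p q hpq z) = Submodule.Quotient.mk z := fun z => by
    rw [LinearEquiv.symm_apply_eq]; rfl
  refine ⟨g₀ ∘ₗ e.symm.toLinearMap, Submodule.liftQ _ _ hle, hg₀.comp e.symm.injective, ?_, ?_, ?_, fun x => rfl⟩
  · intro c
    obtain ⟨x, rfl⟩ := Submodule.Quotient.mk_surjective _ c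
    rw [Submodule.liftQ_apply]
    constructor
    · intro hx
      have hx' : x ∈ ker (P.d p q).hom := by
        rw [← ker_rangeRestrict]; exact hx
      exact ⟨pcls P p q hpq ⟨x, hx'⟩, by simp [he, g₀]⟩
    · rintro ⟨h, hh⟩
      obtain ⟨z, rfl⟩ := pcls_surjective hpq h
      simp only [LinearMap.comp_apply, LinearEquiv.coe_coe, he, g₀, Submodule.mapQ_apply] at hh
      rw [Submodule.Quotient.eq] at hh
      have := hle hh
      rw [LinearMap.mem_ker, map_sub, sub_eq_zero] at this
      rw [← this]
      exact LinearMap.mem_ker.mp (by rw [ker_rangeRestrict]; exact z.2)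
  · intro y
    obtain ⟨x, rfl⟩ := (P.d p q).hom.surjective_rangeRestrict y
    exact ⟨Submodule.Quotient.mk x, rfl⟩
  · intro z; simp [he, g₀]

variable (hP : ∀ i, Module.Flat A (P.X i))
include hP

omit hP in
theorem flat_coker_iff_flat_homology (hpq : q + 1 = p) (hpr : p + 1 = r)
    [Module.Flat A (range (P.d p q).hom)] :
    Module.Flat A (P.X p ⧸ range (P.d r p).hom) ↔ Module.Flat A (P.homology p) := by
  obtain ⟨g, f, hg, hgf, hf, -⟩ := exists_homology_coker_seq (P := P) hpq hpr
  exact ⟨fun _ => flat_of_exact_of_flat hg hgf hf, fun _ => flat_middle hg hgf hf⟩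

theorem flat_range_of_preservesEpi (hpq : q + 1 = p) (h : (CohIII.TFun P p).PreservesEpimorphisms) :
    Module.Flat A (range (P.d p q).hom) := by
  have := hP q
  have := (preservesEpi_iff hP hpq).mp h
  exact flat_range _

/-- Exactness of `T_p` is right exactness plus flatness of `H_p`. -/
theorem preservesBoth_iff (hpq : q + 1 = p) :
    ((CohIII.TFun P p).PreservesMonomorphisms ∧ (CohIII.TFun P p).PreservesEpimorphisms) ↔
      (CohIII.TFun P p).PreservesEpimorphisms ∧ Module.Flat A (P.homology p) := by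
  constructor
  · rintro ⟨hm, he⟩
    have := flat_range_of_preservesEpi hP hpq he
    exact ⟨he, (flat_coker_iff_flat_homology hpq rfl).mp ((preservesMono_iff hP rfl).mp hm)⟩
  · rintro ⟨he, hH⟩
    have := flat_range_of_preservesEpi hP hpq he
    exact ⟨(preservesMono_iff hP rfl).mpr ((flat_coker_iff_flat_homology hpq rfl).mpr hH), he⟩

/-- A right exact `T_p` is tensoring with `H_p(P)`. -/
noncomputable def tIso (hpq : q + 1 = p) (h : (CohIII.TFun P p).PreservesEpimorphisms) :
    tensorLeft (P.homology p) ≅ CohIII.TFun P p :=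
  haveI := hP q
  haveI := (preservesEpi_iff hP hpq).mp h
  NatIso.ofComponents (fun M => (tEquiv hpq M (rTensor_ker_of_flat_coker _ M)).toModuleIso)
    (fun {M N} g => ModuleCat.hom_ext (LinearMap.ext fun x => (tEquiv_natural hpq g (rTensor_ker_of_flat_coker _ M) (rTensor_ker_of_flat_coker _ N) x).symm))

omit hP

theorem tensorLeft_preservesEpi (N : ModuleCat.{u} A) : (tensorLeft N).PreservesEpimorphisms :=
  ⟨fun f _ => (ModuleCat.epi_iff_surjective _).mpr
    (LinearMap.lTensor_surjective N ((ModuleCat.epi_iff_surjective f).mp inferInstance))⟩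

theorem tensorLeft_preservesMono (N : ModuleCat.{u} A) [Module.Flat A N] :
    (tensorLeft N).PreservesMonomorphisms :=
  ⟨fun f _ => (ModuleCat.mono_iff_injective _).mpr
    (Module.Flat.lTensor_preserves_injective_linearMap f.hom ((ModuleCat.mono_iff_injective f).mp inferInstance))⟩

include hP

theorem preservesEpi_iff_iso_tensorLeft :
    (CohIII.TFun P p).PreservesEpimorphisms ↔
      ∃ N : ModuleCat.{u} A, Nonempty (CohIII.TFun P p ≅ tensorLeft N) := by
  constructor
  · intro h
    exact ⟨P.homology p, ⟨(tIso hP (sub_add_cancel p 1) h).symm⟩⟩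
  · rintro ⟨N, ⟨e⟩⟩
    have := tensorLeft_preservesEpi N
    exact Functor.PreservesEpimorphisms.of_iso e.symm

theorem preservesBoth_iff_iso_tensorLeft :
    ((CohIII.TFun P p).PreservesMonomorphisms ∧ (CohIII.TFun P p).PreservesEpimorphisms) ↔
      ∃ N : ModuleCat.{u} A, Module.Flat A N ∧ Nonempty (CohIII.TFun P p ≅ tensorLeft N) := by
  constructor
  · intro h
    obtain ⟨he, hH⟩ := (preservesBoth_iff hP (sub_add_cancel p 1)).mp h
    exact ⟨P.homology p, hH, ⟨(tIso hP (sub_add_cancel p 1) he).symm⟩⟩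
  · rintro ⟨N, hN, ⟨e⟩⟩
    have := tensorLeft_preservesEpi N
    have := tensorLeft_preservesMono N
    exact ⟨Functor.PreservesMonomorphisms.of_iso e.symm, Functor.PreservesEpimorphisms.of_iso e.symm⟩

end Groth.Agent.FCx40
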