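import Groth.Agent.FCx40.Local
import Groth.Agent.FCx40.Crit
import Mathlib.RingTheory.LocalProperties.Reduced

namespace Groth.Agent.FCx40

open CategoryTheory TensorProduct LinearMap
open Function (Surjective Injective Exact Bijective)

universe u

variable {A : Type u} [CommRing A]

theorem fib_of_free [IsLocalRing A] (M : Type u) [AddCommGroup M] [Module A M] [Module.Free A M] [Module.Finite A M]
    (x : PrimeSpectrum A) : fib M x = fib M (IsLocalRing.closedPoint A) := by
  rw [fib_eq_rankAtStalk, fib_eq_rankAtStalk, Module.rankAtStalk_eq_finrank_of_free]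
  rfl

theorem fib_le_closedPoint [IsLocalRing A] (M : Type u) [AddCommGroup M] [Module A M] [Module.Finite A M]
    (x : PrimeSpectrum A) : fib M x ≤ fib M (IsLocalRing.closedPoint A) := by
  obtain ⟨U, hU, hUo, hcl⟩ := eventually_nhds_iff.mp
    (upperSemicontinuousAt_iff.mp (upperSemicontinuous_iff.mp (upperSemicontinuous_fib (A := A) M)
      (IsLocalRing.closedPoint A)) _ (Nat.lt_succ_self _))
  exact Nat.lt_succ_iff.mp (hU x ((IsLocalRing.specializes_closedPoint x).mem_open hUo hcl))

variable {P : ChainComplex (ModuleCat.{u} A) ℤ} {p q r : ℤ}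

theorem finite_coker (hP : ∀ i, Module.Finite A (P.X i)) (i j : ℤ) :
    Module.Finite A (P.X j ⧸ range (P.d i j).hom) :=
  haveI := hP j
  inferInstance

theorem both_iff_free [IsLocalRing A] (hP : ∀ i, Module.Finite A (P.X i) ∧ Module.Flat A (P.X i))
    (hpq : q + 1 = p) (hpr : p + 1 = r) :
    ((CohIII.TFun P p).PreservesMonomorphisms ∧ (CohIII.TFun P p).PreservesEpimorphisms) ↔
      Module.Free A (P.X p ⧸ range (P.d r p).hom) ∧ Module.Free A (P.X q ⧸ range (P.d p q).hom) := by
  rw [preservesMono_iff (fun i => (hP i).2) hpr, preservesEpi_iff (fun i => (hP i).2) hpq]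
  have := finite_coker (fun i => (hP i).1) r p
  have := finite_coker (fun i => (hP i).1) p q
  exact ⟨fun ⟨_, _⟩ => ⟨Module.free_of_flat_of_isLocalRing, Module.free_of_flat_of_isLocalRing⟩,
    fun ⟨_, _⟩ => ⟨inferInstance, inferInstance⟩⟩

theorem dRank_eq_closedPoint_of_both [IsLocalRing A] (hP : ∀ i, Module.Finite A (P.X i) ∧ Module.Flat A (P.X i))
    (hex : (CohIII.TFun P p).PreservesMonomorphisms ∧ (CohIII.TFun P p).PreservesEpimorphisms)
    (x : PrimeSpectrum A) : CohIII.dRank P p x = CohIII.dRank P p (IsLocalRing.closedPoint A) := by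
  obtain ⟨_, _⟩ := (both_iff_free hP (sub_add_cancel p 1) rfl).mp hex
  have := finite_coker (fun i => (hP i).1) (p + 1) p
  have := finite_coker (fun i => (hP i).1) p (p - 1)
  have := (hP (p - 1)).1
  have := (hP (p - 1)).2
  have : Module.Free A (P.X (p - 1)) := Module.free_of_flat_of_isLocalRing
  have h1 := dRank_add (fun i => (hP i).1) (sub_add_cancel p 1) rfl x
  have h2 := dRank_add (fun i => (hP i).1) (sub_add_cancel p 1) rfl (IsLocalRing.closedPoint A)
  rw [fib_of_free (P.X (p - 1)) x, fib_of_free (P.X p ⧸ _) x, fib_of_free (P.X (p - 1) ⧸ _) x] at h1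
  omega

theorem both_of_dRank_eq [IsLocalRing A] [IsReduced A] (hP : ∀ i, Module.Finite A (P.X i) ∧ Module.Flat A (P.X i))
    (h : ∀ y : PrimeSpectrum A, y.asIdeal ∈ minimalPrimes A →
      CohIII.dRank P p y = CohIII.dRank P p (IsLocalRing.closedPoint A)) :
    (CohIII.TFun P p).PreservesMonomorphisms ∧ (CohIII.TFun P p).PreservesEpimorphisms := by
  have := finite_coker (fun i => (hP i).1) (p + 1) p
  have := finite_coker (fun i => (hP i).1) p (p - 1)
  have := (hP (p - 1)).1
  have := (hP (p - 1)).2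
  have : Module.Free A (P.X (p - 1)) := Module.free_of_flat_of_isLocalRing
  have key : ∀ y : PrimeSpectrum A, y.asIdeal ∈ minimalPrimes A →
      fib (P.X p ⧸ range (P.d (p + 1) p).hom) y =
          fib (P.X p ⧸ range (P.d (p + 1) p).hom) (IsLocalRing.closedPoint A) ∧
        fib (P.X (p - 1) ⧸ range (P.d p (p - 1)).hom) y =
          fib (P.X (p - 1) ⧸ range (P.d p (p - 1)).hom) (IsLocalRing.closedPoint A) := fun y hy => by
    have h1 := dRank_add (fun i => (hP i).1) (sub_add_cancel p 1) rfl y
    have h2 := dRank_add (fun i => (hP i).1) (sub_add_cancel p 1) rfl (IsLocalRing.closedPoint A)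
    rw [fib_of_free (P.X (p - 1)) y, h y hy] at h1
    have := fib_le_closedPoint (P.X p ⧸ range (P.d (p + 1) p).hom) y
    have := fib_le_closedPoint (P.X (p - 1) ⧸ range (P.d p (p - 1)).hom) y
    omega
  exact (both_iff_free hP (sub_add_cancel p 1) rfl).mpr
    ⟨free_of_fib_eq _ fun y hy => (key y hy).1, free_of_fib_eq _ fun y hy => (key y hy).2⟩

variable (B : Type u) [CommRing B] [Algebra A B]

theorem finite_flat_bcCx (hP : ∀ i, Module.Finite A (P.X i) ∧ Module.Flat A (P.X i)) (i : ℤ) :
    Module.Finite B ((CohIII.bcCx (algebraMap A B) P).X i) ∧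
      Module.Flat B ((CohIII.bcCx (algebraMap A B) P).X i) :=
  haveI := (hP i).1
  ⟨Module.Finite.equiv (bX B P i).symm, flat_bcCx B (fun i => (hP i).2) i⟩

/-- At a prime, flatness of a cokernel is membership in its free locus. -/
theorem flat_bc_coker_iff (hP : ∀ i, Module.Finite A (P.X i)) (i j : ℤ) (y : PrimeSpectrum A) :
    Module.Flat (Localization.AtPrime y.asIdeal)
        (Localization.AtPrime y.asIdeal ⊗[A] (P.X j ⧸ range (P.d i j).hom)) ↔
      y ∈ Module.freeLocus A (P.X j ⧸ range (P.d i j).hom) := by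
  rw [Module.mem_freeLocus_iff_tensor y (Localization.AtPrime y.asIdeal)]
  have := finite_coker hP i j
  exact ⟨fun _ => Module.free_of_flat_of_isLocalRing, fun _ => inferInstance⟩

theorem epiLocus_eq (hP : ∀ i, Module.Finite A (P.X i) ∧ Module.Flat A (P.X i)) (hpq : q + 1 = p) :
    {y : PrimeSpectrum A |
      (CohIII.TFun (CohIII.bcCx (algebraMap A (Localization.AtPrime y.asIdeal)) P) p).PreservesEpimorphisms} =
      Module.freeLocus A (P.X q ⧸ range (P.d p q).hom) := by
  ext y
  exact (bc_preservesEpi_iff _ (fun i => (hP i).2) hpq).trans (flat_bc_coker_iff (fun i => (hP i).1) p q y)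

theorem monoLocus_eq (hP : ∀ i, Module.Finite A (P.X i) ∧ Module.Flat A (P.X i)) (hpr : p + 1 = r) :
    {y : PrimeSpectrum A |
      (CohIII.TFun (CohIII.bcCx (algebraMap A (Localization.AtPrime y.asIdeal)) P) p).PreservesMonomorphisms} =
      Module.freeLocus A (P.X p ⧸ range (P.d r p).hom) := by
  ext y
  exact (bc_preservesMono_iff _ (fun i => (hP i).2) hpr).trans (flat_bc_coker_iff (fun i => (hP i).1) r p y)

theorem flat_of_freeLocus_eq_univ (M : Type u) [AddCommGroup M] [Module A M] [Module.FinitePresentation A M]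
    (h : Module.freeLocus A M = Set.univ) : Module.Flat A M :=
  haveI := Module.freeLocus_eq_univ_iff.mp h
  inferInstance

end Groth.Agent.FCx40
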