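import Mathlib.Algebra.Homology.ShortComplex.ModuleCat
import Mathlib.Algebra.Homology.ShortComplex.HomologicalComplex
import Mathlib.Algebra.Homology.HomologicalComplex

namespace Groth.Agent.FCx40

open CategoryTheory CategoryTheory.Limits LinearMap

universe v u

variable {R : Type u} [Ring R] {ι : Type*} {c : ComplexShape ι}

section

variable (K : HomologicalComplex (ModuleCat.{v} R) c) (i j k : ι)

theorem d_comp_subtype_ker :
    ModuleCat.ofHom (ker (K.d j k).hom).subtype ≫ K.d j k = 0 :=
  ModuleCat.hom_ext (LinearMap.comp_ker_subtype _)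

/-- The class in homology of a cycle. -/
noncomputable def hcls (hk : c.next j = k) : ker (K.d j k).hom →ₗ[R] K.homology j :=
  (K.liftCycles (A := ModuleCat.of R (ker (K.d j k).hom)) (ModuleCat.ofHom (ker (K.d j k).hom).subtype) k hk
    (d_comp_subtype_ker K j k) ≫ K.homologyπ j).hom

variable {K i j k}

theorem liftCycles_ker_surjective (hk : c.next j = k) :
    Function.Surjective (K.liftCycles (A := ModuleCat.of R (ker (K.d j k).hom))
      (ModuleCat.ofHom (ker (K.d j k).hom).subtype) k hk (d_comp_subtype_ker K j k)).hom := by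
  intro z
  have hz : (K.iCycles j).hom z ∈ ker (K.d j k).hom :=
    (ConcreteCategory.comp_apply _ _ _).symm.trans
      (by rw [K.iCycles_d]; rfl)
  refine ⟨⟨(K.iCycles j).hom z, hz⟩, (ModuleCat.mono_iff_injective (K.iCycles j)).mp inferInstance ?_⟩
  exact ConcreteCategory.congr_hom (K.liftCycles_i _ k hk (d_comp_subtype_ker K j k)) ⟨_, hz⟩

theorem hcls_surjective (hk : c.next j = k) : Function.Surjective (hcls K j k hk) :=
  ((ModuleCat.epi_iff_surjective (K.homologyπ j)).mp inferInstance).comp (liftCycles_ker_surjective hk)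

theorem hcls_eq_zero_iff (hi : c.prev j = i) (hk : c.next j = k) (z : ker (K.d j k).hom) :
    hcls K j k hk z = 0 ↔ (z : K.X j) ∈ range (K.d i j).hom := by
  let L := K.liftCycles (A := ModuleCat.of R (ker (K.d j k).hom))
      (ModuleCat.ofHom (ker (K.d j k).hom).subtype) k hk (d_comp_subtype_ker K j k)
  have hex := ShortComplex.exact_of_g_is_cokernel
    (ShortComplex.mk (K.toCycles i j) (K.homologyπ j) (K.toCycles_comp_homologyπ i j)) (K.homologyIsCokernel i j hi)
  have hL : ∀ z, (K.iCycles j).hom (L.hom z) = (z : K.X j) := fun z =>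
    ConcreteCategory.congr_hom (K.liftCycles_i _ k hk (d_comp_subtype_ker K j k)) z
  have hto : ∀ w, (K.iCycles j).hom ((K.toCycles i j).hom w) = (K.d i j).hom w := fun w =>
    ConcreteCategory.congr_hom (K.toCycles_i i j) w
  constructor
  · intro h
    obtain ⟨w, hw⟩ := (ShortComplex.moduleCat_exact_iff _).mp hex (L.hom z) h
    exact ⟨w, (hto w).symm.trans ((congrArg (K.iCycles j).hom hw).trans (hL z))⟩
  · rintro ⟨w, hw⟩
    have : L.hom z = (K.toCycles i j).hom w :=
      (ModuleCat.mono_iff_injective (K.iCycles j)).mp inferInstance ((hL z).trans (hw.symm.trans (hto w).symm))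
    show (K.homologyπ j).hom (L.hom z) = 0
    rw [this]
    exact ConcreteCategory.congr_hom (K.toCycles_comp_homologyπ i j) w

theorem ker_hcls (hi : c.prev j = i) (hk : c.next j = k) :
    ker (hcls K j k hk) = (range (K.d i j).hom).comap (ker (K.d j k).hom).subtype := by
  ext z
  exact hcls_eq_zero_iff hi hk z

theorem map_mem_ker {L : HomologicalComplex (ModuleCat.{v} R) c} (φ : K ⟶ L) (z : ker (K.d j k).hom) :
    (φ.f j).hom z ∈ ker (L.d j k).hom :=
  (ConcreteCategory.congr_hom (φ.comm j k) (z : K.X j)).trans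
    ((congrArg (φ.f k).hom z.2).trans (map_zero _))

theorem hcls_map {L : HomologicalComplex (ModuleCat.{v} R) c} (φ : K ⟶ L) (hk : c.next j = k)
    (z : ker (K.d j k).hom) :
    (HomologicalComplex.homologyMap φ j).hom (hcls K j k hk z) =
      hcls L j k hk ⟨(φ.f j).hom z, map_mem_ker φ z⟩ := by
  let z' : ker (L.d j k).hom := ⟨(φ.f j).hom z, map_mem_ker φ z⟩
  show (HomologicalComplex.homologyMap φ j).hom ((K.homologyπ j).hom _) = (L.homologyπ j).hom _
  refine (ConcreteCategory.congr_hom (HomologicalComplex.homologyπ_naturality φ j) _).trans ?_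
  show (L.homologyπ j).hom _ = _
  congr 1
  refine (ModuleCat.mono_iff_injective (L.iCycles j)).mp inferInstance ?_
  refine ((ConcreteCategory.congr_hom (HomologicalComplex.cyclesMap_i φ j) _).trans ?_).trans
    (ConcreteCategory.congr_hom (L.liftCycles_i _ k hk (d_comp_subtype_ker L j k)) z').symm
  exact congrArg (φ.f j).hom (ConcreteCategory.congr_hom (K.liftCycles_i _ k hk (d_comp_subtype_ker K j k)) z)

variable (K)

/-- Projection to opcycles is surjective with kernel the boundaries. -/
theorem pOpcycles_spec (hi : c.prev j = i) :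
    Function.Surjective (K.pOpcycles j).hom ∧ ker (K.pOpcycles j).hom = range (K.d i j).hom := by
  refine ⟨(ModuleCat.epi_iff_surjective (K.pOpcycles j)).mp inferInstance, ?_⟩
  exact ((ShortComplex.exact_of_g_is_cokernel (ShortComplex.mk (K.d i j) (K.pOpcycles j) (K.d_pOpcycles i j))
    (K.opcyclesIsCokernel i j hi)).moduleCat_range_eq_ker).symm

/-- `opcycles` is the quotient by the boundaries. -/
noncomputable def opcyclesEquiv (hi : c.prev j = i) :
    (K.X j ⧸ range (K.d i j).hom) ≃ₗ[R] K.opcycles j :=
  Submodule.quotEquivOfEq _ _ (pOpcycles_spec K hi).2.symm ≪≫ₗ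
    (K.pOpcycles j).hom.quotKerEquivOfSurjective (pOpcycles_spec K hi).1

end

end Groth.Agent.FCx40
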