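import Mathlib.RingTheory.Flat.Equalizer
import Mathlib.RingTheory.Flat.Stability
import Mathlib.LinearAlgebra.TensorProduct.RightExactness
import Mathlib.LinearAlgebra.Isomorphisms

namespace Groth.Agent.FCx40

open TensorProduct LinearMap Function

universe u

variable {R : Type u} [CommRing R] {X Y : Type u} [AddCommGroup X] [Module R X] [AddCommGroup Y] [Module R Y]

/-- Every element killed by `d ⊗ M''` lifts to one killed by `d ⊗ M`, for each surjection `M → M''`. -/
def KerLift (d : X →ₗ[R] Y) : Prop :=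
  ∀ (M M'' : Type u) [AddCommGroup M] [Module R M] [AddCommGroup M''] [Module R M''] (π : M →ₗ[R] M''),
    Surjective π → ∀ x'' : X ⊗[R] M'', d.rTensor M'' x'' = 0 →
      ∃ x : X ⊗[R] M, d.rTensor M x = 0 ∧ π.lTensor X x = x''

/-- Elements of `Y ⊗ M'` that become boundaries in `Y ⊗ M` are boundaries, for each injection `M' → M`. -/
def BdReflect (d : X →ₗ[R] Y) : Prop :=
  ∀ (M' M : Type u) [AddCommGroup M'] [Module R M'] [AddCommGroup M] [Module R M] (i : M' →ₗ[R] M),
    Injective i → ∀ y : Y ⊗[R] M', i.lTensor Y y ∈ range (d.rTensor M) → y ∈ range (d.rTensor M')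

variable (d : X →ₗ[R] Y)

theorem comm_rTensor_lTensor {M M'' : Type u} [AddCommGroup M] [Module R M] [AddCommGroup M''] [Module R M'']
    (π : M →ₗ[R] M'') (x : X ⊗[R] M) :
    d.rTensor M'' (π.lTensor X x) = π.lTensor Y (d.rTensor M x) := by
  rw [← LinearMap.comp_apply, ← LinearMap.comp_apply, rTensor_comp_lTensor, lTensor_comp_rTensor]

theorem rTensor_mkQ_eq_zero_iff {M : Type u} [AddCommGroup M] [Module R M] (y : Y ⊗[R] M) :
    (range d).mkQ.rTensor M y = 0 ↔ y ∈ range (d.rTensor M) :=
  rTensor_exact M d.exact_map_mkQ_range (Submodule.mkQ_surjective _) y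

theorem bdReflect_iff_flat : BdReflect d ↔ Module.Flat R (Y ⧸ range d) := by
  rw [Module.Flat.iff_lTensor_preserves_injective_linearMap]
  constructor
  · intro h M' M _ _ _ _ i hi
    rw [injective_iff_map_eq_zero]
    intro c hc
    obtain ⟨y, rfl⟩ := rTensor_surjective M' (Submodule.mkQ_surjective (range d)) c
    rw [rTensor_mkQ_eq_zero_iff]
    refine h M' M i hi y ?_
    rw [← rTensor_mkQ_eq_zero_iff, comm_rTensor_lTensor]
    exact hc
  · intro h M' M _ _ _ _ i hi y hy
    rw [← rTensor_mkQ_eq_zero_iff] at hy ⊢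
    rw [comm_rTensor_lTensor] at hy
    exact (injective_iff_map_eq_zero _).mp (h i hi) _ hy

variable {d}

theorem bdReflect_of_kerLift [Module.Flat R Y] (h : KerLift d) : BdReflect d := by
  intro M' M _ _ _ _ i hi y hy
  obtain ⟨x, hx⟩ := hy
  have hex : Exact i (range i).mkQ := i.exact_map_mkQ_range
  have h0 : d.rTensor (M ⧸ range i) ((range i).mkQ.lTensor X x) = 0 := by
    rw [comm_rTensor_lTensor, hx, ← LinearMap.comp_apply, ← lTensor_comp,
      hex.linearMap_comp_eq_zero, lTensor_zero, LinearMap.zero_apply]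
  obtain ⟨x₀, hx₀, hx₀'⟩ := h M _ _ (Submodule.mkQ_surjective _) _ h0
  obtain ⟨x', hx'⟩ := (lTensor_exact X hex (Submodule.mkQ_surjective _) (x - x₀)).mp
    (by rw [map_sub, hx₀', sub_self])
  refine ⟨x', Module.Flat.lTensor_preserves_injective_linearMap i hi ?_⟩
  rw [← comm_rTensor_lTensor, hx', map_sub, hx₀, sub_zero, hx]

theorem kerLift_of_bdReflect (h : BdReflect d) : KerLift d := by
  intro M M'' _ _ _ _ π hπ x'' hx''
  obtain ⟨x, rfl⟩ := lTensor_surjective X hπ x''
  rw [comm_rTensor_lTensor] at hx''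
  obtain ⟨y, hy⟩ := (lTensor_exact Y (exact_subtype_ker_map π) hπ _).mp hx''
  obtain ⟨x', rfl⟩ := h _ _ (ker π).subtype (Submodule.injective_subtype _) y ⟨x, hy.symm⟩
  refine ⟨x - (ker π).subtype.lTensor X x', ?_, ?_⟩
  · rw [map_sub, comm_rTensor_lTensor, hy, sub_self]
  · rw [map_sub, ← LinearMap.comp_apply, ← lTensor_comp, (exact_subtype_ker_map π).linearMap_comp_eq_zero,
      lTensor_zero, LinearMap.zero_apply, sub_zero]

theorem kerLift_iff_flat [Module.Flat R Y] : KerLift d ↔ Module.Flat R (Y ⧸ range d) :=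
  ⟨fun h => (bdReflect_iff_flat d).mp (bdReflect_of_kerLift h),
    fun h => kerLift_of_bdReflect ((bdReflect_iff_flat d).mpr h)⟩

section Kernels

variable {W : Type u} [AddCommGroup W] [Module R W]

/-- The kernel of a surjection of flat modules is flat. -/
theorem flat_of_exact_of_flat {N : Type u} [AddCommGroup N] [Module R N] [Module.Flat R Y] [Module.Flat R W]
    {g : N →ₗ[R] Y} {f : Y →ₗ[R] W} (hg : Injective g) (H : Exact g f) (hf : Surjective f) :
    Module.Flat R N := by
  rw [Module.Flat.iff_lTensor_preserves_injective_linearMap]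
  intro M' M _ _ _ _ i hi a b hab
  have hinj : Injective (g.rTensor M') :=
    (lTensor_inj_iff_rTensor_inj _ _).mp (lTensor_injective_of_exact_of_flat f hf g hg H M')
  apply hinj
  apply Module.Flat.lTensor_preserves_injective_linearMap (M := Y) i hi
  rw [← comm_rTensor_lTensor, ← comm_rTensor_lTensor, hab]

/-- The middle of a short exact sequence with flat ends is flat. -/
theorem flat_middle {N : Type u} [AddCommGroup N] [Module R N] [Module.Flat R N] [Module.Flat R W]
    {g : N →ₗ[R] Y} {f : Y →ₗ[R] W} (hg : Injective g) (H : Exact g f) (hf : Surjective f) :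
    Module.Flat R Y := by
  rw [Module.Flat.iff_lTensor_preserves_injective_linearMap]
  intro M' M _ _ _ _ i hi
  rw [injective_iff_map_eq_zero]
  intro y hy
  have h1 : f.rTensor M' y = 0 := by
    apply Module.Flat.lTensor_preserves_injective_linearMap (M := W) i hi
    rw [map_zero, ← comm_rTensor_lTensor, hy, map_zero]
  obtain ⟨n, rfl⟩ := (rTensor_exact M' H hf y).mp h1
  have h2 : g.rTensor M (i.lTensor N n) = 0 := by rw [comm_rTensor_lTensor, hy]
  have hinj : Injective (g.rTensor M) :=
    (lTensor_inj_iff_rTensor_inj _ _).mp (lTensor_injective_of_exact_of_flat f hf g hg H M)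
  have h3 : i.lTensor N n = 0 := hinj (by rw [h2, map_zero])
  rw [Module.Flat.lTensor_preserves_injective_linearMap (M := N) i hi (h3.trans (map_zero _).symm), map_zero]

variable (d)

theorem flat_range [Module.Flat R Y] [Module.Flat R (Y ⧸ range d)] : Module.Flat R (range d) :=
  flat_of_exact_of_flat (Submodule.injective_subtype _) (LinearMap.exact_subtype_mkQ _)
    (Submodule.mkQ_surjective _)

/-- With flat cokernel, taking kernels commutes with tensoring. -/
theorem lTensor_ker_of_flat_coker [Module.Flat R Y] [Module.Flat R (Y ⧸ range d)]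
    (M : Type u) [AddCommGroup M] [Module R M] :
    Injective ((ker d).subtype.lTensor M) ∧ Exact ((ker d).subtype.lTensor M) (d.lTensor M) := by
  have := flat_range d
  have hs : Surjective d.rangeRestrict := d.surjective_rangeRestrict
  have hex : Exact (ker d).subtype d.rangeRestrict := by
    rw [LinearMap.exact_iff, LinearMap.ker_rangeRestrict, Submodule.range_subtype]
  refine ⟨lTensor_injective_of_exact_of_flat _ hs _ (Submodule.injective_subtype _) hex M, fun z => ?_⟩
  have hinj := lTensor_injective_of_exact_of_flat _ (Submodule.mkQ_surjective (range d)) _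
    (Submodule.injective_subtype _) (LinearMap.exact_subtype_mkQ _) M
  have heq : d.lTensor M z = (range d).subtype.lTensor M (d.rangeRestrict.lTensor M z) := by
    rw [← LinearMap.comp_apply, ← lTensor_comp]; rfl
  rw [← lTensor_exact M hex hs z]
  exact ⟨fun h => hinj ((heq.symm.trans h).trans (map_zero _).symm), fun h => by rw [heq, h, map_zero]⟩

/-- With flat coefficients, taking kernels commutes with tensoring. -/
theorem lTensor_ker_of_flat (M : Type u) [AddCommGroup M] [Module R M] [Module.Flat R M] :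
    Injective ((ker d).subtype.lTensor M) ∧ Exact ((ker d).subtype.lTensor M) (d.lTensor M) :=
  ⟨Module.Flat.lTensor_preserves_injective_linearMap _ (Submodule.injective_subtype _),
    Module.Flat.lTensor_exact M (exact_subtype_ker_map d)⟩

theorem rTensor_ker_of_lTensor_ker {M : Type u} [AddCommGroup M] [Module R M]
    (h : Injective ((ker d).subtype.lTensor M) ∧ Exact ((ker d).subtype.lTensor M) (d.lTensor M)) :
    Injective ((ker d).subtype.rTensor M) ∧ Exact ((ker d).subtype.rTensor M) (d.rTensor M) := by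
  refine ⟨(lTensor_inj_iff_rTensor_inj _ _).mp h.1, ?_⟩
  exact (Function.Exact.iff_of_ladder_linearEquiv
    (e₁ := TensorProduct.comm R M (ker d)) (e₂ := TensorProduct.comm R M X)
    (e₃ := TensorProduct.comm R M Y) (by ext; rfl) (by ext; rfl)).mpr h.2

theorem rTensor_ker_of_flat_coker [Module.Flat R Y] [Module.Flat R (Y ⧸ range d)]
    (M : Type u) [AddCommGroup M] [Module R M] :
    Injective ((ker d).subtype.rTensor M) ∧ Exact ((ker d).subtype.rTensor M) (d.rTensor M) :=
  rTensor_ker_of_lTensor_ker d (lTensor_ker_of_flat_coker d M)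

theorem rTensor_ker_of_flat (M : Type u) [AddCommGroup M] [Module R M] [Module.Flat R M] :
    Injective ((ker d).subtype.rTensor M) ∧ Exact ((ker d).subtype.rTensor M) (d.rTensor M) :=
  rTensor_ker_of_lTensor_ker d (lTensor_ker_of_flat d M)

end Kernels

section QuotEquiv

variable {S : Type*} [Ring S] {Z H K : Type*} [AddCommGroup Z] [Module S Z] [AddCommGroup H] [Module S H]
  [AddCommGroup K] [Module S K]

/-- Two surjections with the same kernel have isomorphic targets. -/
noncomputable def sameKerEquiv (φ : Z →ₗ[S] H) (ψ : Z →ₗ[S] K) (hφ : Surjective φ) (hψ : Surjective ψ)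
    (h : ker φ = ker ψ) : H ≃ₗ[S] K :=
  (φ.quotKerEquivOfSurjective hφ).symm ≪≫ₗ Submodule.quotEquivOfEq _ _ h ≪≫ₗ ψ.quotKerEquivOfSurjective hψ

theorem sameKerEquiv_apply (φ : Z →ₗ[S] H) (ψ : Z →ₗ[S] K) (hφ : Surjective φ) (hψ : Surjective ψ)
    (h : ker φ = ker ψ) (z : Z) : sameKerEquiv φ ψ hφ hψ h (φ z) = ψ z := by
  have : φ.quotKerEquivOfSurjective hφ (Submodule.Quotient.mk z) = φ z := rfl
  rw [sameKerEquiv, LinearEquiv.trans_apply, LinearEquiv.trans_apply, ← this, LinearEquiv.symm_apply_apply]
  rfl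

end QuotEquiv

end Groth.Agent.FCx40
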