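import Groth.Prelude.Def_ega3
import Groth.Agent.FCx40.Lin
import Groth.Agent.FCx40.Cls

namespace Groth.Agent.FCx40

open CategoryTheory CategoryTheory.Limits TensorProduct LinearMap
open Function (Surjective Injective Exact Bijective)

universe u

variable {A : Type u} [CommRing A] (P : ChainComplex (ModuleCat.{u} A) ℤ) (p q r : ℤ)

theorem next_eq {p q : ℤ} (hpq : q + 1 = p) : (ComplexShape.down ℤ).next p = q :=
  ComplexShape.next_eq' _ hpq

theorem prev_eq {p r : ℤ} (hpr : p + 1 = r) : (ComplexShape.down ℤ).prev p = r :=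
  ComplexShape.prev_eq' _ hpr

/-- The class of a cycle of `P ⊗ M`. -/
noncomputable def tcls (hpq : q + 1 = p) (M : ModuleCat.{u} A) :
    ker ((P.d p q).hom.rTensor M) →ₗ[A] CohIII.T P p M :=
  hcls (CohIII.tensorObj P M) p q (next_eq hpq)

variable {P p q r}

theorem tcls_surjective (hpq : q + 1 = p) (M : ModuleCat.{u} A) : Surjective (tcls P p q hpq M) :=
  hcls_surjective _

theorem tcls_eq_zero_iff (hpq : q + 1 = p) (hpr : p + 1 = r) (M : ModuleCat.{u} A)
    (z : ker ((P.d p q).hom.rTensor M)) :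
    tcls P p q hpq M z = 0 ↔ (z : P.X p ⊗[A] M) ∈ range ((P.d r p).hom.rTensor M) :=
  hcls_eq_zero_iff (K := CohIII.tensorObj P M) (prev_eq hpr) (next_eq hpq) z

/-- The map `T_p(M) → T_p(N)` of a morphism `M → N`. -/
noncomputable abbrev tmap (P : ChainComplex (ModuleCat.{u} A) ℤ) (p : ℤ) {M N : ModuleCat.{u} A} (g : M ⟶ N) :
    CohIII.T P p M →ₗ[A] CohIII.T P p N :=
  ((CohIII.TFun P p).map g).hom

theorem d_mem_ker (x : P.X r) : (P.d r p).hom x ∈ ker (P.d p q).hom :=
  LinearMap.mem_ker.mpr (ConcreteCategory.congr_hom (P.d_comp_d r p q) x)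

theorem lTensor_mem_ker {M N : ModuleCat.{u} A} (g : M →ₗ[A] N) (z : ker ((P.d p q).hom.rTensor M)) :
    g.lTensor (P.X p) z ∈ ker ((P.d p q).hom.rTensor N) := by
  rw [LinearMap.mem_ker, comm_rTensor_lTensor, LinearMap.mem_ker.mp z.2, map_zero]

theorem map_tcls (hpq : q + 1 = p) {M N : ModuleCat.{u} A} (g : M ⟶ N)
    (z : ker ((P.d p q).hom.rTensor M)) :
    tmap P p g (tcls P p q hpq M z) =
      tcls P p q hpq N ⟨g.hom.lTensor (P.X p) z, lTensor_mem_ker g.hom z⟩ :=
  hcls_map (CohIII.tensorMap P g) (next_eq hpq) z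

theorem map_surjective_iff (hpq : q + 1 = p) {M N : ModuleCat.{u} A} (g : M ⟶ N) (hg : Surjective g.hom) :
    Surjective (tmap P p g) ↔
      ∀ x'' : P.X p ⊗[A] N, (P.d p q).hom.rTensor N x'' = 0 →
        ∃ x : P.X p ⊗[A] M, (P.d p q).hom.rTensor M x = 0 ∧ g.hom.lTensor (P.X p) x = x'' := by
  constructor
  · intro h x'' hx''
    obtain ⟨t, ht⟩ := h (tcls P p q hpq N ⟨x'', hx''⟩)
    obtain ⟨z, rfl⟩ := tcls_surjective hpq M t
    rw [map_tcls, ← sub_eq_zero, ← map_sub, tcls_eq_zero_iff hpq (r := p + 1) rfl] at ht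
    obtain ⟨w, hw⟩ := ht
    obtain ⟨v, rfl⟩ := lTensor_surjective (P.X (p + 1)) hg w
    rw [comm_rTensor_lTensor] at hw
    refine ⟨z - (P.d (p + 1) p).hom.rTensor M v, ?_, ?_⟩
    · rw [map_sub, LinearMap.mem_ker.mp z.2, ← LinearMap.comp_apply, ← rTensor_comp, ← ModuleCat.hom_comp,
        P.d_comp_d, ModuleCat.hom_zero, rTensor_zero, LinearMap.zero_apply, sub_zero]
    · rw [map_sub, hw]
      exact sub_sub_cancel _ _
  · intro h t
    obtain ⟨⟨x'', hx''⟩, rfl⟩ := tcls_surjective hpq N t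
    obtain ⟨x, hx, hx'⟩ := h x'' hx''
    refine ⟨tcls P p q hpq M ⟨x, hx⟩, ?_⟩
    rw [map_tcls]
    exact congrArg _ (Subtype.ext hx')

theorem preservesEpi_iff_kerLift (hpq : q + 1 = p) :
    (CohIII.TFun P p).PreservesEpimorphisms ↔ KerLift (P.d p q).hom := by
  constructor
  · intro h M M'' _ _ _ _ π hπ
    have : Epi (ModuleCat.ofHom π) := (ModuleCat.epi_iff_surjective _).mpr hπ
    exact (map_surjective_iff hpq (ModuleCat.ofHom π) hπ).mp
      ((ModuleCat.epi_iff_surjective _).mp (h.preserves _))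
  · intro h
    constructor
    intro M N g hg
    have hg' : Surjective g.hom := (ModuleCat.epi_iff_surjective g).mp hg
    rw [ModuleCat.epi_iff_surjective]
    exact (map_surjective_iff hpq g hg').mpr (h M N g.hom hg')

theorem preservesEpi_iff (hP : ∀ i, Module.Flat A (P.X i)) (hpq : q + 1 = p) :
    (CohIII.TFun P p).PreservesEpimorphisms ↔ Module.Flat A (P.X q ⧸ range (P.d p q).hom) := by
  have := hP q
  rw [preservesEpi_iff_kerLift hpq, kerLift_iff_flat]

theorem preservesMono_iff_bdReflect (hP : ∀ i, Module.Flat A (P.X i)) (hpr : p + 1 = r) :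
    (CohIII.TFun P p).PreservesMonomorphisms ↔ BdReflect (P.d r p).hom := by
  have hpq : p - 1 + 1 = p := sub_add_cancel p 1
  have := hP (p - 1)
  constructor
  · intro h M' M _ _ _ _ i hi y hy
    have : Mono (ModuleCat.ofHom i) := (ModuleCat.mono_iff_injective _).mpr hi
    have hinj : Injective (tmap P p (ModuleCat.ofHom i)) :=
      (ModuleCat.mono_iff_injective _).mp (h.preserves _)
    have hker : (P.d p (p - 1)).hom.rTensor M' y = 0 := by
      apply Module.Flat.lTensor_preserves_injective_linearMap i hi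
      obtain ⟨w, hw⟩ := hy
      rw [← comm_rTensor_lTensor, ← hw, map_zero, ← LinearMap.comp_apply, ← rTensor_comp,
        ← ModuleCat.hom_comp, P.d_comp_d, ModuleCat.hom_zero, rTensor_zero, LinearMap.zero_apply]
    refine (tcls_eq_zero_iff hpq hpr (ModuleCat.of A M') ⟨y, LinearMap.mem_ker.mpr hker⟩).mp (hinj ?_)
    rw [map_tcls, map_zero]
    exact (tcls_eq_zero_iff hpq hpr _ _).mpr hy
  · intro h
    constructor
    intro M' M i hi
    rw [ModuleCat.mono_iff_injective]
    show Injective (tmap P p i)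
    intro a b hab
    rw [← sub_eq_zero] at hab ⊢
    rw [← map_sub] at hab
    revert hab
    obtain ⟨z, hz⟩ := tcls_surjective hpq M' (a - b)
    rw [← hz, map_tcls]
    intro hab
    rw [tcls_eq_zero_iff hpq hpr] at hab ⊢
    exact h M' M i.hom ((ModuleCat.mono_iff_injective i).mp hi) z hab

theorem preservesMono_iff (hP : ∀ i, Module.Flat A (P.X i)) (hpr : p + 1 = r) :
    (CohIII.TFun P p).PreservesMonomorphisms ↔ Module.Flat A (P.X p ⧸ range (P.d r p).hom) := by
  rw [preservesMono_iff_bdReflect hP hpr, bdReflect_iff_flat]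

section Compare

/-- The class of a cycle of `P`. -/
noncomputable def pcls (P : ChainComplex (ModuleCat.{u} A) ℤ) (p q : ℤ) (hpq : q + 1 = p) :
    ker (P.d p q).hom →ₗ[A] P.homology p :=
  hcls P p q (next_eq hpq)

theorem pcls_surjective (hpq : q + 1 = p) : Surjective (pcls P p q hpq) := hcls_surjective _

theorem ker_pcls (hpq : q + 1 = p) (hpr : p + 1 = r) :
    ker (pcls P p q hpq) = (range (P.d r p).hom).comap (ker (P.d p q).hom).subtype :=
  ker_hcls (prev_eq hpr) (next_eq hpq)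

theorem rTensor_subtype_mem_ker (M : ModuleCat.{u} A) (w : ker (P.d p q).hom ⊗[A] M) :
    (ker (P.d p q).hom).subtype.rTensor M w ∈ ker ((P.d p q).hom.rTensor M) := by
  rw [LinearMap.mem_ker, ← LinearMap.comp_apply, ← rTensor_comp, LinearMap.comp_ker_subtype, rTensor_zero,
    LinearMap.zero_apply]

/-- The canonical map from `(cycles of P) ⊗ M` to the homology of `P ⊗ M`. -/
noncomputable def cycMap (P : ChainComplex (ModuleCat.{u} A) ℤ) (p q : ℤ) (hpq : q + 1 = p)
    (M : ModuleCat.{u} A) : ker (P.d p q).hom ⊗[A] M →ₗ[A] CohIII.T P p M :=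
  tcls P p q hpq M ∘ₗ ((ker (P.d p q).hom).subtype.rTensor M).codRestrict _ (rTensor_subtype_mem_ker M)

theorem cycMap_apply (hpq : q + 1 = p) (M : ModuleCat.{u} A) (w : ker (P.d p q).hom ⊗[A] M) :
    cycMap P p q hpq M w = tcls P p q hpq M ⟨_, rTensor_subtype_mem_ker M w⟩ := rfl

theorem cycMap_natural (hpq : q + 1 = p) {M N : ModuleCat.{u} A} (g : M ⟶ N)
    (w : ker (P.d p q).hom ⊗[A] M) :
    tmap P p g (cycMap P p q hpq M w) = cycMap P p q hpq N (g.hom.lTensor _ w) := by
  rw [cycMap_apply, cycMap_apply, map_tcls]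
  exact congrArg _ (Subtype.ext (comm_rTensor_lTensor _ _ _).symm)

theorem ker_pcls_rTensor (hpq : q + 1 = p) (hpr : p + 1 = r) (M : ModuleCat.{u} A) :
    ker ((pcls P p q hpq).rTensor M) =
      range (((P.d r p).hom.codRestrict (ker (P.d p q).hom) d_mem_ker).rTensor M) := by
  refine LinearMap.exact_iff.mp (rTensor_exact M ?_ (pcls_surjective hpq))
  rw [LinearMap.exact_iff, ker_pcls hpq hpr, LinearMap.range_codRestrict]

theorem cycMap_surjective_ker (hpq : q + 1 = p) (hpr : p + 1 = r) (M : ModuleCat.{u} A)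
    (hk : Injective ((ker (P.d p q).hom).subtype.rTensor M) ∧
      Exact ((ker (P.d p q).hom).subtype.rTensor M) ((P.d p q).hom.rTensor M)) :
    Surjective (cycMap P p q hpq M) ∧
      ker ((pcls P p q hpq).rTensor M) = ker (cycMap P p q hpq M) := by
  refine ⟨fun t => ?_, ?_⟩
  · obtain ⟨⟨x, hx⟩, rfl⟩ := tcls_surjective hpq M t
    obtain ⟨w, rfl⟩ := (hk.2 x).mp hx
    exact ⟨w, rfl⟩
  · rw [ker_pcls_rTensor hpq hpr]
    ext w
    rw [LinearMap.mem_ker, cycMap_apply, tcls_eq_zero_iff hpq hpr]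
    constructor
    · rintro ⟨v, rfl⟩
      refine ⟨v, ?_⟩
      show (P.d r p).hom.rTensor M v = (ker (P.d p q).hom).subtype.rTensor M _
      rw [← LinearMap.comp_apply, ← rTensor_comp, LinearMap.subtype_comp_codRestrict]
    · rintro ⟨v, hv⟩
      refine ⟨v, hk.1 ?_⟩
      rw [← LinearMap.comp_apply, ← rTensor_comp, LinearMap.subtype_comp_codRestrict, hv]

/-- `H_p(P) ⊗ M ≅ H_p(P ⊗ M)` when kernels commute with tensoring by `M`. -/
noncomputable def tEquiv (hpq : q + 1 = p) (M : ModuleCat.{u} A)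
    (hk : Injective ((ker (P.d p q).hom).subtype.rTensor M) ∧
      Exact ((ker (P.d p q).hom).subtype.rTensor M) ((P.d p q).hom.rTensor M)) :
    P.homology p ⊗[A] M ≃ₗ[A] CohIII.T P p M :=
  sameKerEquiv _ _ (rTensor_surjective M (pcls_surjective hpq))
    (cycMap_surjective_ker hpq (r := p + 1) rfl M hk).1 (cycMap_surjective_ker hpq rfl M hk).2

theorem tEquiv_natural (hpq : q + 1 = p) {M N : ModuleCat.{u} A} (g : M ⟶ N)
    (hM : Injective ((ker (P.d p q).hom).subtype.rTensor M) ∧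
      Exact ((ker (P.d p q).hom).subtype.rTensor M) ((P.d p q).hom.rTensor M))
    (hN : Injective ((ker (P.d p q).hom).subtype.rTensor N) ∧
      Exact ((ker (P.d p q).hom).subtype.rTensor N) ((P.d p q).hom.rTensor N))
    (h : P.homology p ⊗[A] M) :
    tmap P p g (tEquiv hpq M hM h) = tEquiv hpq N hN (g.hom.lTensor _ h) := by
  obtain ⟨w, rfl⟩ := rTensor_surjective M (pcls_surjective (P := P) hpq) h
  rw [← comm_rTensor_lTensor, tEquiv, tEquiv, sameKerEquiv_apply, sameKerEquiv_apply, cycMap_natural]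

/-- `H_p(P) ≅ T_p(A)`. -/
noncomputable def tOneEquiv (hpq : q + 1 = p) : P.homology p ≃ₗ[A] CohIII.T P p (ModuleCat.of A A) :=
  (TensorProduct.rid A _).symm ≪≫ₗ tEquiv hpq (ModuleCat.of A A) (rTensor_ker_of_flat _ A)

end Compare

end Groth.Agent.FCx40
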