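import Groth.Prelude.Def_DRing2
import Groth.Agent.TorBal94.FirstVariable
import Groth.Agent.FCx40.Cls
import Groth.Agent.FCx40.Lin

/-!
# Tor along a short exact sequence in the first variable
-/

set_option autoImplicit false
universe u

open CategoryTheory CategoryTheory.Limits MonoidalCategory TensorProduct LinearMap
open Function (Surjective Injective Exact Bijective)
open Groth.Agent.TorBal94

namespace Groth.Agent.FCx40

variable {A : Type u} [CommRing A]

/-- `Tor` as the homology of a complex computed with the chosen resolution. -/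
noncomputable def torEquiv (n : ℕ) (M N : Type u) [AddCommGroup M] [Module A M] [AddCommGroup N]
    [Module A N] : DRing.Tor A n M N ≃ₗ[A] (cx (ModuleCat.of A M) (ModuleCat.of A N)).homology n :=
  ((projectiveResolution (ModuleCat.of A N)).isoLeftDerivedObj
    ((tensoringLeft (ModuleCat.{u} A)).obj (ModuleCat.of A M)) n).toLinearEquiv

theorem cx_d_zero (Y S : ModuleCat.{u} A) : (cx Y S).d 0 0 = 0 :=
  (cx Y S).shape 0 0 (by simp)

/-- The class in `H_0` of an element of degree zero. -/
noncomputable def cls0 (Y S : ModuleCat.{u} A) : (cx Y S).X 0 →ₗ[A] (cx Y S).homology 0 :=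
  hcls (cx Y S) 0 0 (by simp) ∘ₗ
    LinearMap.id.codRestrict _ (fun x => by simp [cx_d_zero])

theorem cls0_surjective (Y S : ModuleCat.{u} A) : Surjective (cls0 Y S) := by
  intro t
  obtain ⟨⟨x, hx⟩, rfl⟩ := hcls_surjective (K := cx Y S) (j := 0) (k := 0) (by simp) t
  exact ⟨x, rfl⟩

/-- The augmentation. -/
noncomputable def aug (Y S : ModuleCat.{u} A) : (cx Y S).X 0 →ₗ[A] Y ⊗[A] S :=
  LinearMap.lTensor Y ((projectiveResolution S).π.f 0).hom

theorem aug_surjective (Y S : ModuleCat.{u} A) : Surjective (aug Y S) :=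
  LinearMap.lTensor_surjective Y ((ModuleCat.epi_iff_surjective _).1
    (inferInstanceAs (Epi ((projectiveResolution S).π.f 0))))

theorem ker_cls0 (Y S : ModuleCat.{u} A) : LinearMap.ker (cls0 Y S) = LinearMap.ker (aug Y S) := by
  let P := projectiveResolution S
  have hex : Exact (P.complex.d 1 0).hom (P.π.f 0).hom :=
    (ShortComplex.ShortExact.moduleCat_exact_iff_function_exact _).1 P.exact₀
  have h := lTensor_exact Y hex ((ModuleCat.epi_iff_surjective _).1 (inferInstanceAs (Epi (P.π.f 0))))
  ext x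
  rw [LinearMap.mem_ker, LinearMap.mem_ker, cls0, LinearMap.comp_apply,
    hcls_eq_zero_iff (i := 1) (by simp) (by simp)]
  exact (h x).symm

/-- `H_0` is the tensor product. -/
noncomputable def e0 (Y S : ModuleCat.{u} A) : (cx Y S).homology 0 ≃ₗ[A] Y ⊗[A] S :=
  sameKerEquiv (cls0 Y S) (aug Y S) (cls0_surjective Y S) (aug_surjective Y S) (ker_cls0 Y S)

theorem e0_natural {Y Z : ModuleCat.{u} A} (f : Y ⟶ Z) (S : ModuleCat.{u} A)
    (t : (cx Y S).homology 0) :
    e0 Z S ((HomologicalComplex.homologyMap (cxMap f S) 0).hom t) = f.hom.rTensor S (e0 Y S t) := by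
  obtain ⟨x, rfl⟩ := cls0_surjective Y S t
  have h1 : (HomologicalComplex.homologyMap (cxMap f S) 0).hom (cls0 Y S x) =
      cls0 Z S (((cxMap f S).f 0).hom x) := hcls_map (cxMap f S) (j := 0) (k := 0) (by simp) _
  rw [h1, e0, e0, sameKerEquiv_apply, sameKerEquiv_apply]
  exact (comm_rTensor_lTensor f.hom ((projectiveResolution S).π.f 0).hom x).symm

variable {N F H : Type u} [AddCommGroup N] [Module A N] [AddCommGroup F] [Module A F]
  [AddCommGroup H] [Module A H] (ι : N →ₗ[A] F) (π : F →ₗ[A] H)
  (M : Type u) [AddCommGroup M] [Module A M]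

variable {ι π} in
/-- `Tor₁` of a flat presentation. -/
theorem nonempty_torOne_equiv [Module.Flat A F] (hι : Injective ι) (he : Exact ι π)
    (hπ : Surjective π) :
    Nonempty (LinearMap.ker (ι.rTensor M) ≃ₗ[A] DRing.Tor A 1 H M) := by
  have hS := shortExact_cx ι π hι he hπ (ModuleCat.of A M)
  let S := ModuleCat.of A M
  have hz : IsZero ((cx (ModuleCat.of A F) S).homology 1) :=
    (isZero_tor_iff _ _ _).1 (isZero_tor_of_flat_left F S 0)
  have hinj : Injective (hS.δ 1 0 rfl).hom := by
    have := hS.homology_exact₃ 1 0 rfl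
    rw [ShortComplex.exact_iff_mono _ (hz.eq_of_src _ _)] at this
    exact (ModuleCat.mono_iff_injective _).1 this
  have hrange := (ShortComplex.moduleCat_exact_iff_range_eq_ker _).1 (hS.homology_exact₁ 1 0 rfl)
  let e1 := LinearEquiv.ofInjective (hS.δ 1 0 rfl).hom hinj
  have hmap : (LinearMap.range (hS.δ 1 0 rfl).hom).map
      (e0 (ModuleCat.of A N) S).toLinearMap = LinearMap.ker (ι.rTensor M) := by
    refine (congrArg (Submodule.map _) hrange).trans ?_
    ext y
    rw [Submodule.mem_map_equiv, LinearMap.mem_ker, LinearMap.mem_ker]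
    have h := e0_natural (ModuleCat.ofHom ι) S ((e0 (ModuleCat.of A N) S).symm y)
    rw [LinearEquiv.apply_symm_apply] at h
    exact ⟨fun hy => h.symm.trans ((congrArg _ hy).trans (map_zero _)),
      fun hy => (e0 (ModuleCat.of A F) S).injective ((h.trans hy).trans (map_zero _).symm)⟩
  exact ⟨((torEquiv 1 H M).trans (e1.trans
    ((LinearEquiv.submoduleMap (e0 (ModuleCat.of A N) S) _).trans
      (LinearEquiv.ofEq _ _ hmap)))).symm⟩

variable {ι π} in
/-- Dimension shifting along a flat middle term. -/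
theorem nonempty_torSucc_equiv [Module.Flat A F] (hι : Injective ι) (he : Exact ι π)
    (hπ : Surjective π) (n : ℕ) :
    Nonempty (DRing.Tor A (n + 2) H M ≃ₗ[A] DRing.Tor A (n + 1) N M) := by
  have hS := shortExact_cx ι π hι he hπ (ModuleCat.of A M)
  let S := ModuleCat.of A M
  haveI := hS.isIso_δ (n + 2) (n + 1) rfl
    ((isZero_tor_iff _ _ _).1 (isZero_tor_of_flat_left F S (n + 1)))
    ((isZero_tor_iff _ _ _).1 (isZero_tor_of_flat_left F S n))
  exact ⟨(torEquiv (n + 2) H M).trans ((asIso (hS.δ (n + 2) (n + 1) rfl)).toLinearEquiv.trans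
    (torEquiv (n + 1) N M).symm)⟩

variable {ι π} in
/-- A flat quotient does not change the higher `Tor`. -/
theorem nonempty_torSucc_equiv_of_flat_quotient [Module.Flat A H] (hι : Injective ι)
    (he : Exact ι π) (hπ : Surjective π) (n : ℕ) :
    Nonempty (DRing.Tor A (n + 1) N M ≃ₗ[A] DRing.Tor A (n + 1) F M) := by
  have hS := shortExact_cx ι π hι he hπ (ModuleCat.of A M)
  let S := ModuleCat.of A M
  have h1 := hS.homology_exact₁ (n + 2) (n + 1) rfl
  have h2 := hS.homology_exact₂ (n + 1)
  rw [ShortComplex.exact_iff_mono _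
    (((isZero_tor_iff _ _ _).1 (isZero_tor_of_flat_left H S (n + 1))).eq_of_src _ _)] at h1
  rw [ShortComplex.exact_iff_epi _
    (((isZero_tor_iff _ _ _).1 (isZero_tor_of_flat_left H S n)).eq_of_tgt _ _)] at h2
  haveI : Mono (HomologicalComplex.homologyMap (cxMap (ModuleCat.ofHom ι) S) (n + 1)) := h1
  haveI : Epi (HomologicalComplex.homologyMap (cxMap (ModuleCat.ofHom ι) S) (n + 1)) := h2
  haveI := isIso_of_mono_of_epi (HomologicalComplex.homologyMap (cxMap (ModuleCat.ofHom ι) S) (n + 1))
  exact ⟨(torEquiv (n + 1) N M).trans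
    ((asIso (HomologicalComplex.homologyMap (cxMap (ModuleCat.ofHom ι) S) (n + 1))).toLinearEquiv.trans
      (torEquiv (n + 1) F M).symm)⟩

/-- The kernel/cokernel sequence of a two-term flat complex tensored with a module. -/
theorem twoTerm_tor {P₁ P₀ : Type u} [AddCommGroup P₁] [Module A P₁] [AddCommGroup P₀] [Module A P₀]
    [Module.Flat A P₁] [Module.Flat A P₀] (d : P₁ →ₗ[A] P₀) :
    Nonempty (LinearMap.ker ((LinearMap.ker d).subtype.rTensor M) ≃ₗ[A]
        DRing.Tor A 2 (P₀ ⧸ LinearMap.range d) M) ∧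
      LinearMap.range ((LinearMap.ker d).subtype.rTensor M) ≤ LinearMap.ker (d.rTensor M) ∧
      Nonempty ((↥(LinearMap.ker (d.rTensor M)) ⧸
          Submodule.comap (LinearMap.ker (d.rTensor M)).subtype
            (LinearMap.range ((LinearMap.ker d).subtype.rTensor M))) ≃ₗ[A]
        DRing.Tor A 1 (P₀ ⧸ LinearMap.range d) M) := by
  have he0 : Exact (LinearMap.range d).subtype (LinearMap.range d).mkQ :=
    LinearMap.exact_subtype_mkQ _
  have he1 : Exact (LinearMap.ker d).subtype d.rangeRestrict := by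
    rw [LinearMap.exact_iff, LinearMap.ker_rangeRestrict, Submodule.range_subtype]
  have hs := d.surjective_rangeRestrict
  obtain ⟨eT⟩ := nonempty_torOne_equiv M (Submodule.injective_subtype _) he0
    (Submodule.mkQ_surjective (LinearMap.range d))
  obtain ⟨eI⟩ := nonempty_torOne_equiv M (Submodule.injective_subtype _) he1 hs
  obtain ⟨eS⟩ := nonempty_torSucc_equiv M (Submodule.injective_subtype _) he0
    (Submodule.mkQ_surjective (LinearMap.range d)) 0
  refine ⟨⟨eI.trans eS.symm⟩, ?_, ?_⟩
  · rintro _ ⟨w, rfl⟩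
    rw [LinearMap.mem_ker, ← LinearMap.comp_apply, ← rTensor_comp, LinearMap.comp_ker_subtype,
      rTensor_zero, LinearMap.zero_apply]
  · have hc : ∀ z, d.rTensor M z =
        (LinearMap.range d).subtype.rTensor M (d.rangeRestrict.rTensor M z) := fun z => by
      rw [← LinearMap.comp_apply, ← rTensor_comp]; rfl
    let ψ := (d.rangeRestrict.rTensor M ∘ₗ (LinearMap.ker (d.rTensor M)).subtype).codRestrict
      (LinearMap.ker ((LinearMap.range d).subtype.rTensor M))
      fun z => LinearMap.mem_ker.2 ((hc _).symm.trans (LinearMap.mem_ker.1 z.2))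
    have hψ : Surjective ψ := by
      rintro ⟨y, hy⟩
      obtain ⟨z, rfl⟩ := rTensor_surjective M hs y
      exact ⟨⟨z, LinearMap.mem_ker.2 ((hc z).trans (LinearMap.mem_ker.1 hy))⟩, rfl⟩
    have hker : LinearMap.ker ψ = Submodule.comap (LinearMap.ker (d.rTensor M)).subtype
        (LinearMap.range ((LinearMap.ker d).subtype.rTensor M)) := by
      ext ⟨z, hz⟩
      rw [LinearMap.mem_ker, Submodule.mem_comap, Subtype.ext_iff]
      exact rTensor_exact M he1 hs z
    let e := sameKerEquiv (K := ↥(LinearMap.ker ((LinearMap.range d).subtype.rTensor M)))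
      (Submodule.comap (LinearMap.ker (d.rTensor M)).subtype
        (LinearMap.range ((LinearMap.ker d).subtype.rTensor M))).mkQ ψ
      (Submodule.mkQ_surjective _) hψ ((Submodule.ker_mkQ _).trans hker.symm)
    exact ⟨e.trans eT⟩

end Groth.Agent.FCx40
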