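import Groth.Agent.FCx40.TF

namespace Groth.Agent.FCx40

open CategoryTheory CategoryTheory.Limits TensorProduct LinearMap
open Function (Surjective Injective Exact Bijective)
open scoped ChangeOfRings

universe u

variable {A : Type u} [CommRing A] (B : Type u) [CommRing B] [Algebra A B]

theorem ext_induction {M : ModuleCat.{u} A} {motive : ((ModuleCat.extendScalars (algebraMap A B)).obj M : Type u) → Prop}
    (x) (h0 : motive 0) (ht : ∀ (b : B) (m : M), motive (b ⊗ₜ[A,(algebraMap A B)] m))
    (ha : ∀ x y, motive x → motive y → motive (x + y)) : motive x := by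
  induction x using TensorProduct.induction_on with
  | zero => exact h0
  | tmul b m => exact ht b m
  | add x y hx hy => exact ha x y hx hy

noncomputable def extToAdd (M : ModuleCat.{u} A) : ((ModuleCat.extendScalars (algebraMap A B)).obj M : Type u) →+ B ⊗[A] (M : Type u) :=
  letI := Module.compHom B (algebraMap A B)
  TensorProduct.liftAddHom
    (M := B) (N := (M : Type u)) (R := A)
    { toFun := fun b => AddMonoidHom.mk' (fun m => @TensorProduct.tmul A _ B M _ _ Algebra.toModule _ b m)
        (fun x y => @TensorProduct.tmul_add A _ B M _ _ Algebra.toModule _ b x y)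
      map_zero' := by ext m; exact @TensorProduct.zero_tmul A _ B M _ _ Algebra.toModule _ m
      map_add' := fun x y => by ext m; exact @TensorProduct.add_tmul A _ B M _ _ Algebra.toModule _ x y m }
    (fun r b m => by
      show @TensorProduct.tmul A _ B M _ _ Algebra.toModule _ (algebraMap A B r * b) m = @TensorProduct.tmul A _ B M _ _ Algebra.toModule _ b (r • m)
      rw [← Algebra.smul_def]
      exact (let _ : Module A B := Algebra.toModule; TensorProduct.smul_tmul r b m))

theorem extToAdd_tmul (M : ModuleCat.{u} A) (b : B) (m : M) :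
    extToAdd B M (b ⊗ₜ[A,(algebraMap A B)] m) = b ⊗ₜ[A] m := rfl

noncomputable def extInv (M : ModuleCat.{u} A) : B ⊗[A] (M : Type u) →+ ((ModuleCat.extendScalars (algebraMap A B)).obj M : Type u) :=
  TensorProduct.liftAddHom
    { toFun := fun b => AddMonoidHom.mk' (fun m => b ⊗ₜ[A,(algebraMap A B)] m) (fun x y =>
        letI := Module.compHom B (algebraMap A B); tmul_add b x y)
      map_zero' := by
        ext m
        exact (let _ := Module.compHom B (algebraMap A B); zero_tmul B m)
      map_add' := fun x y => by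
        ext m
        exact (let _ := Module.compHom B (algebraMap A B); add_tmul x y m) }
    (fun r b m => by
      show (r • b : B) ⊗ₜ[A,(algebraMap A B)] m = b ⊗ₜ[A,(algebraMap A B)] (r • m)
      rw [Algebra.smul_def]
      exact (let _ := Module.compHom B (algebraMap A B); smul_tmul r b m))

theorem extInv_tmul (M : ModuleCat.{u} A) (b : B) (m : M) : extInv B M (b ⊗ₜ[A] m) = b ⊗ₜ[A,(algebraMap A B)] m := rfl

noncomputable def extEquiv (M : ModuleCat.{u} A) : ((ModuleCat.extendScalars (algebraMap A B)).obj M : Type u) ≃ₗ[B] B ⊗[A] (M : Type u) :=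
  { extToAdd B M with
    map_smul' := fun s x => by
      show extToAdd B M (s • x) = s • extToAdd B M x
      induction x using ext_induction with
      | h0 => simp
      | ht b m => erw [ModuleCat.ExtendScalars.smul_tmul, extToAdd_tmul, extToAdd_tmul]; rfl
      | ha x y hx hy => rw [smul_add, map_add, map_add, hx, hy, smul_add]
    invFun := extInv B M
    left_inv := fun x => by
      show extInv B M (extToAdd B M x) = x
      induction x using ext_induction with
      | h0 => simp
      | ht b m => rfl
      | ha x y hx hy => rw [map_add, map_add, hx, hy]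
    right_inv := fun x => by
      show extToAdd B M (extInv B M x) = x
      induction x using TensorProduct.induction_on with
      | zero => simp
      | tmul b m => rfl
      | add x y hx hy => rw [map_add, map_add, hx, hy] }

theorem extEquiv_tmul (M : ModuleCat.{u} A) (b : B) (m : M) :
    extEquiv B M (b ⊗ₜ[A,(algebraMap A B)] m) = b ⊗ₜ[A] m := rfl

variable (P : ChainComplex (ModuleCat.{u} A) ℤ) {p q r : ℤ}

theorem extEquiv_d (i j : ℤ) (x : (ModuleCat.extendScalars (algebraMap A B)).obj (P.X i)) :
    extEquiv B (P.X j) (((CohIII.bcCx (algebraMap A B) P).d i j).hom x) = LinearMap.baseChange B (P.d i j).hom (extEquiv B (P.X i) x) := by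
  induction x using ext_induction with
  | h0 => erw [map_zero]
  | ht b m => rfl
  | ha x y hx hy => erw [map_add, map_add, map_add, map_add, hx, hy]

/-- The terms of the base changed complex. -/
noncomputable def bX (i : ℤ) : (CohIII.bcCx (algebraMap A B) P).X i ≃ₗ[B] B ⊗[A] P.X i :=
  extEquiv B (P.X i)

theorem bX_d (i j : ℤ) (x : (CohIII.bcCx (algebraMap A B) P).X i) :
    bX B P j (((CohIII.bcCx (algebraMap A B) P).d i j).hom x) = LinearMap.baseChange B (P.d i j).hom (bX B P i x) :=
  extEquiv_d B P i j x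

/-- The `B`-linear map `B ⊗ X_p → B ⊗ X_q`, as used for the base changed complex. -/
theorem bX_symm_d (i j : ℤ) (x : B ⊗[A] P.X i) :
    ((CohIII.bcCx (algebraMap A B) P).d i j).hom ((bX B P i).symm x) =
      (bX B P j).symm (LinearMap.baseChange B (P.d i j).hom x) := by
  apply (bX B P j).injective
  rw [LinearEquiv.apply_symm_apply]
  exact (bX_d B P i j _).trans (congrArg _ ((bX B P i).apply_symm_apply x))

theorem symm_mem_ker (z : ker ((P.d p q).hom.baseChange B)) :
    (bX B P p).symm (z : B ⊗[A] P.X p) ∈ ker ((CohIII.bcCx (algebraMap A B) P).d p q).hom :=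
  LinearMap.mem_ker.mpr ((bX_symm_d B P p q _).trans
    ((congrArg _ (LinearMap.mem_ker.mp z.2)).trans (map_zero _)))

/-- The class of a cycle of the base changed complex. -/
noncomputable def bcls (hpq : q + 1 = p) :
    ker ((P.d p q).hom.baseChange B) →ₗ[B] (CohIII.bcCx (algebraMap A B) P).homology p :=
  hcls (CohIII.bcCx (algebraMap A B) P) p q (next_eq hpq) ∘ₗ
    ((bX B P p).symm.toLinearMap ∘ₗ (ker ((P.d p q).hom.baseChange B)).subtype).codRestrict _
      (symm_mem_ker B P)

theorem bcls_surjective (hpq : q + 1 = p) : Surjective (bcls B P hpq) := by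
  intro t
  obtain ⟨⟨y, hy⟩, rfl⟩ := hcls_surjective (K := CohIII.bcCx (algebraMap A B) P) (j := p) (k := q) (next_eq hpq) t
  have hy' : bX B P p y ∈ ker ((P.d p q).hom.baseChange B) :=
    LinearMap.mem_ker.mpr ((bX_d B P p q y).symm.trans
      ((congrArg _ (LinearMap.mem_ker.mp hy)).trans (map_zero _)))
  exact ⟨⟨_, hy'⟩, congrArg (hcls (CohIII.bcCx (algebraMap A B) P) p q (next_eq hpq))
    (Subtype.ext ((bX B P p).symm_apply_apply y))⟩

theorem bcls_eq_zero_iff (hpq : q + 1 = p) (hpr : p + 1 = r) (z : ker ((P.d p q).hom.baseChange B)) :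
    bcls B P hpq z = 0 ↔ (z : B ⊗[A] P.X p) ∈ range ((P.d r p).hom.baseChange B) := by
  refine (hcls_eq_zero_iff (K := CohIII.bcCx (algebraMap A B) P) (prev_eq hpr) (next_eq hpq) _).trans ?_
  constructor
  · rintro ⟨w, hw⟩
    exact ⟨bX B P r w, (bX_d B P r p w).symm.trans
      ((congrArg (bX B P p) hw).trans ((bX B P p).apply_symm_apply _))⟩
  · rintro ⟨v, hv⟩
    exact ⟨(bX B P r).symm v, (bX_symm_d B P r p v).trans (congrArg _ hv)⟩

theorem ker_bcls (hpq : q + 1 = p) (hpr : p + 1 = r) :
    ker (bcls B P hpq) = (range ((P.d r p).hom.baseChange B)).comap (ker ((P.d p q).hom.baseChange B)).subtype := by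
  ext z
  exact bcls_eq_zero_iff B P hpq hpr z

theorem baseChange_subtype_mem_ker (w : B ⊗[A] ker (P.d p q).hom) :
    (ker (P.d p q).hom).subtype.baseChange B w ∈ ker ((P.d p q).hom.baseChange B) := by
  rw [LinearMap.mem_ker, ← LinearMap.comp_apply, ← baseChange_comp, LinearMap.comp_ker_subtype, baseChange_zero,
    LinearMap.zero_apply]

/-- `B ⊗ H_p(P) ≅ H_p(B ⊗ P)` when kernels commute with tensoring by `B`. -/
noncomputable def bcEquiv (hpq : q + 1 = p)
    (hk : Injective ((ker (P.d p q).hom).subtype.lTensor B) ∧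
      Exact ((ker (P.d p q).hom).subtype.lTensor B) ((P.d p q).hom.lTensor B)) :
    B ⊗[A] P.homology p ≃ₗ[B] (CohIII.bcCx (algebraMap A B) P).homology p :=
  sameKerEquiv ((pcls P p q hpq).baseChange B)
    (bcls B P hpq ∘ₗ ((ker (P.d p q).hom).subtype.baseChange B).codRestrict _ (baseChange_subtype_mem_ker B P))
    (LinearMap.lTensor_surjective B (pcls_surjective hpq))
    (fun t => by
      obtain ⟨⟨x, hx⟩, rfl⟩ := bcls_surjective B P hpq t
      obtain ⟨w, hw⟩ := (hk.2 x).mp hx
      exact ⟨w, congrArg (bcls B P hpq) (Subtype.ext hw)⟩)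
    (by
      have hker : ker ((pcls P p q hpq).lTensor B) =
          range (((P.d (p + 1) p).hom.codRestrict (ker (P.d p q).hom) d_mem_ker).lTensor B) := by
        refine LinearMap.exact_iff.mp (lTensor_exact B ?_ (pcls_surjective hpq))
        rw [LinearMap.exact_iff, ker_pcls hpq rfl, LinearMap.range_codRestrict]
      ext w
      rw [LinearMap.mem_ker, LinearMap.mem_ker, LinearMap.comp_apply, bcls_eq_zero_iff B P hpq rfl]
      refine Iff.trans (Iff.of_eq (congrArg (w ∈ ·) hker)) ?_
      constructor
      · rintro ⟨v, rfl⟩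
        refine ⟨v, ?_⟩
        show (P.d (p + 1) p).hom.lTensor B v = (ker (P.d p q).hom).subtype.lTensor B _
        rw [← LinearMap.comp_apply, ← lTensor_comp, LinearMap.subtype_comp_codRestrict]
      · rintro ⟨v, hv⟩
        refine ⟨v, hk.1 ?_⟩
        rw [← LinearMap.comp_apply, ← lTensor_comp, LinearMap.subtype_comp_codRestrict]
        exact hv)

/-- The cokernel of a differential of the base changed complex. -/
noncomputable def bcCokerEquiv (i j : ℤ) :
    ((CohIII.bcCx (algebraMap A B) P).X j ⧸ range ((CohIII.bcCx (algebraMap A B) P).d i j).hom) ≃ₗ[B]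
      B ⊗[A] (P.X j ⧸ range (P.d i j).hom) :=
  sameKerEquiv
    ((range ((CohIII.bcCx (algebraMap A B) P).d i j).hom).mkQ ∘ₗ (bX B P j).symm.toLinearMap)
    ((range (P.d i j).hom).mkQ.baseChange B)
    ((Submodule.mkQ_surjective _).comp (bX B P j).symm.surjective)
    (LinearMap.lTensor_surjective B (Submodule.mkQ_surjective _))
    (by
      ext y
      rw [LinearMap.mem_ker, LinearMap.mem_ker, LinearMap.comp_apply]
      refine Iff.trans ?_ (lTensor_exact B (P.d i j).hom.exact_map_mkQ_range (Submodule.mkQ_surjective _) y).symm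
      rw [LinearEquiv.coe_coe]
      refine (Submodule.Quotient.mk_eq_zero _).trans ?_
      constructor
      · rintro ⟨w, hw⟩
        exact ⟨bX B P i w, (bX_d B P i j w).symm.trans
          ((congrArg (bX B P j) hw).trans ((bX B P j).apply_symm_apply y))⟩
      · rintro ⟨v, hv⟩
        exact ⟨(bX B P i).symm v, (bX_symm_d B P i j v).trans (congrArg _ hv)⟩)

variable {P}

theorem flat_bcCx (hP : ∀ i, Module.Flat A (P.X i)) (i : ℤ) :
    Module.Flat B ((CohIII.bcCx (algebraMap A B) P).X i) :=
  haveI := hP i
  Module.Flat.of_linearEquiv (bX B P i)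

theorem bc_preservesEpi_iff (hP : ∀ i, Module.Flat A (P.X i)) (hpq : q + 1 = p) :
    (CohIII.TFun (CohIII.bcCx (algebraMap A B) P) p).PreservesEpimorphisms ↔
      Module.Flat B (B ⊗[A] (P.X q ⧸ range (P.d p q).hom)) := by
  rw [preservesEpi_iff (flat_bcCx B hP) hpq]
  exact ⟨fun _ => Module.Flat.of_linearEquiv (bcCokerEquiv B P p q).symm,
    fun _ => Module.Flat.of_linearEquiv (bcCokerEquiv B P p q)⟩

theorem bc_preservesMono_iff (hP : ∀ i, Module.Flat A (P.X i)) (hpr : p + 1 = r) :
    (CohIII.TFun (CohIII.bcCx (algebraMap A B) P) p).PreservesMonomorphisms ↔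
      Module.Flat B (B ⊗[A] (P.X p ⧸ range (P.d r p).hom)) := by
  rw [preservesMono_iff (flat_bcCx B hP) hpr]
  exact ⟨fun _ => Module.Flat.of_linearEquiv (bcCokerEquiv B P r p).symm,
    fun _ => Module.Flat.of_linearEquiv (bcCokerEquiv B P r p)⟩

/-- Base change of complexes is transitive. -/
noncomputable def bcCompIso {A₁ A₂ A₃ : Type u} [CommRing A₁] [CommRing A₂] [CommRing A₃]
    (φ : A₁ →+* A₂) (ψ : A₂ →+* A₃) (P : ChainComplex (ModuleCat.{u} A₁) ℤ) :
    CohIII.bcCx ψ (CohIII.bcCx φ P) ≅ CohIII.bcCx (ψ.comp φ) P :=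
  ((NatIso.mapHomologicalComplex (ModuleCat.extendScalarsComp φ ψ) _).app P).symm

end Groth.Agent.FCx40
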