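import Groth.Agent.FCx40.Crit
import Mathlib.LinearAlgebra.Contraction
import Mathlib.LinearAlgebra.Dual.Lemmas
import Mathlib.RingTheory.Spectrum.Prime.FreeLocus

namespace Groth.Agent.FCx40

open CategoryTheory TensorProduct LinearMap Opposite
open Function (Surjective Injective Exact Bijective)

universe u

variable {A : Type u} [CommRing A]

section Nu

variable (C : Type u) [AddCommGroup C] [Module A C] [Module.Finite A C] [Module.Projective A C]

theorem finite_projective_dual : Module.Finite A (Module.Dual A C) ∧ Module.Projective A (Module.Dual A C) := by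
  obtain ⟨n, f, g, -, -, e⟩ := Module.Finite.exists_comp_eq_id_of_projective A C
  have hd : g.dualMap.comp f.dualMap = LinearMap.id := by
    rw [LinearMap.dualMap_comp_dualMap, e, LinearMap.dualMap_id]
  exact ⟨Module.Finite.of_surjective g.dualMap (Function.HasRightInverse.surjective ⟨f.dualMap, LinearMap.congr_fun hd⟩),
    Module.Projective.of_split f.dualMap g.dualMap hd⟩

/-- `C ⊗ M ≅ Hom(C*, M)` for finite projective `C`. -/
noncomputable def nu (M : Type u) [AddCommGroup M] [Module A M] :
    C ⊗[A] M →ₗ[A] Module.Dual A C →ₗ[A] M :=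
  dualTensorHom A (Module.Dual A C) M ∘ₗ (Module.evalEquiv A C).toLinearMap.rTensor M

theorem nu_tmul (M : Type u) [AddCommGroup M] [Module A M] (c : C) (m : M) (ξ : Module.Dual A C) :
    nu C M (c ⊗ₜ[A] m) ξ = ξ c • m := by
  simp [nu]

theorem nu_bijective (M : Type u) [AddCommGroup M] [Module A M] : Bijective (nu (A := A) C M) := by
  obtain ⟨_, _⟩ := finite_projective_dual (A := A) C
  exact dualTensorHom_bijective.comp ((Module.evalEquiv A C).rTensor M).bijective

theorem nu_natural {M N : Type u} [AddCommGroup M] [Module A M] [AddCommGroup N] [Module A N] (f : M →ₗ[A] N)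
    (x : C ⊗[A] M) (ξ : Module.Dual A C) : nu C N (f.lTensor C x) ξ = f (nu C M x ξ) := by
  induction x using TensorProduct.induction_on with
  | zero => simp
  | tmul c m => simp [nu_tmul]
  | add a b ha hb => simp only [map_add, LinearMap.add_apply, ha, hb]

theorem nu_rTensor {D : Type u} [AddCommGroup D] [Module A D] [Module.Finite A D] [Module.Projective A D]
    (g : C →ₗ[A] D) (M : Type u) [AddCommGroup M] [Module A M] (x : C ⊗[A] M) (η : Module.Dual A D) :
    nu D M (g.rTensor M x) η = nu C M x (g.dualMap η) := by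
  induction x using TensorProduct.induction_on with
  | zero => simp
  | tmul c m => simp [nu_tmul]
  | add a b ha hb => simp only [map_add, LinearMap.add_apply, ha, hb]

end Nu

/-- Kernels of `g ⊗ M` are maps out of the cokernel of the transpose. -/
noncomputable def kerEquivHom {C D : Type u} [AddCommGroup C] [Module A C] [Module.Finite A C]
    [Module.Projective A C] [AddCommGroup D] [Module A D] [Module.Finite A D] [Module.Projective A D]
    (g : C →ₗ[A] D) (M : Type u) [AddCommGroup M] [Module A M] :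
    LinearMap.ker (g.rTensor M) ≃ₗ[A] ((Module.Dual A C ⧸ range g.dualMap) →ₗ[A] M) :=
  LinearEquiv.ofBijective
    { toFun := fun (x : LinearMap.ker (g.rTensor M)) => (range g.dualMap).liftQ (nu C M x) (by
        rintro _ ⟨η, rfl⟩
        rw [LinearMap.mem_ker, ← nu_rTensor, LinearMap.mem_ker.mp x.2, map_zero, LinearMap.zero_apply])
      map_add' := fun x y => Submodule.linearMap_qext _ (LinearMap.ext fun ξ => by simp)
      map_smul' := fun a x => Submodule.linearMap_qext _ (LinearMap.ext fun ξ => by simp) }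
    ⟨fun x y h => Subtype.ext ((nu_bijective C M).1 (LinearMap.ext fun ξ =>
        LinearMap.congr_fun h (Submodule.Quotient.mk ξ))), fun φ => by
      obtain ⟨x, hx⟩ := (nu_bijective C M).2 (φ ∘ₗ (range g.dualMap).mkQ)
      refine ⟨⟨x, LinearMap.mem_ker.mpr ((nu_bijective D M).1 (LinearMap.ext fun η => ?_))⟩, ?_⟩
      · rw [nu_rTensor, hx, map_zero, LinearMap.zero_apply, LinearMap.comp_apply, Submodule.mkQ_apply,
          (Submodule.Quotient.mk_eq_zero _).mpr (LinearMap.mem_range_self _ η), map_zero]
      · exact Submodule.linearMap_qext _ (LinearMap.ext fun ξ => LinearMap.congr_fun hx ξ)⟩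

variable {P : ChainComplex (ModuleCat.{u} A) ℤ} {p : ℤ}

theorem exists_corep [IsNoetherianRing A] (hP : ∀ i, Module.Finite A (P.X i) ∧ Module.Flat A (P.X i))
    (hmono : (CohIII.TFun P p).PreservesMonomorphisms) :
    ∃ Q : ModuleCat.{u} A, Module.Finite A Q ∧
      Nonempty (CohIII.TFun P p ≅ (linearCoyoneda A (ModuleCat.{u} A)).obj (op Q)) := by
  have hf := fun i => (hP i).2
  have hpq : p - 1 + 1 = p := sub_add_cancel p 1
  have := (hP p).1
  have := (hP (p - 1)).1
  have := hf (p - 1)
  let C := P.X p ⧸ range (P.d (p + 1) p).hom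
  let D := P.X (p - 1)
  have hCflat : Module.Flat A C := (preservesMono_iff hf rfl).mp hmono
  have : Module.FinitePresentation A C := Module.finitePresentation_of_finite A _
  have : Module.FinitePresentation A D := Module.finitePresentation_of_finite A _
  have : Module.Projective A C := Module.freeLocus_eq_univ_iff.mp Module.freeLocus_eq_univ
  have : Module.Projective A D := Module.freeLocus_eq_univ_iff.mp Module.freeLocus_eq_univ
  let g : C →ₗ[A] D := Submodule.liftQ _ (P.d p (p - 1)).hom (by
    rintro _ ⟨x, rfl⟩; exact d_mem_ker x)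
  have hfinC : Module.Finite A (Module.Dual A C) := (finite_projective_dual C).1
  have hgd : g ∘ₗ (range (P.d (p + 1) p).hom).mkQ = (P.d p (p - 1)).hom := Submodule.liftQ_mkQ _ _ _
  let mk : ∀ M : ModuleCat.{u} A, LinearMap.ker ((P.d p (p - 1)).hom.rTensor M) →ₗ[A] LinearMap.ker (g.rTensor M) :=
    fun M => ((range (P.d (p + 1) p).hom).mkQ.rTensor M).restrict fun x hx => by
      rw [LinearMap.mem_ker] at hx ⊢
      rw [← LinearMap.comp_apply, ← rTensor_comp, hgd, hx]
  have hmk : ∀ M, Surjective (mk M) := fun M z => by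
    obtain ⟨x, hx⟩ := rTensor_surjective M (Submodule.mkQ_surjective (range (P.d (p + 1) p).hom)) z
    refine ⟨⟨x, ?_⟩, Subtype.ext hx⟩
    rw [LinearMap.mem_ker, ← hgd, rTensor_comp, LinearMap.comp_apply, hx]
    exact z.2
  have hker : ∀ M, LinearMap.ker (tcls P p (p - 1) hpq M) = LinearMap.ker (mk M) := fun M => by
    ext z
    rw [LinearMap.mem_ker, LinearMap.mem_ker, tcls_eq_zero_iff hpq rfl, Subtype.ext_iff]
    exact (rTensor_mkQ_eq_zero_iff _ _).symm
  let ψ : ∀ M : ModuleCat.{u} A, LinearMap.ker ((P.d p (p - 1)).hom.rTensor M) →ₗ[A]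
      ((Module.Dual A C ⧸ range g.dualMap) →ₗ[A] M) := fun M => (kerEquivHom g M).toLinearMap ∘ₗ mk M
  have hker' : ∀ M, LinearMap.ker (tcls P p (p - 1) hpq M) = LinearMap.ker (ψ M) := fun M => by
    rw [LinearEquiv.ker_comp, hker]
  let e : ∀ M : ModuleCat.{u} A, CohIII.T P p M ≃ₗ[A] ((Module.Dual A C ⧸ range g.dualMap) →ₗ[A] M) := fun M =>
    sameKerEquiv (tcls P p (p - 1) hpq M) (ψ M) (tcls_surjective hpq M)
      ((kerEquivHom g M).surjective.comp (hmk M)) (hker' M)
  let Q : ModuleCat.{u} A := ModuleCat.of A (Module.Dual A C ⧸ range g.dualMap)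
  have hQ : Module.Finite A Q := inferInstanceAs (Module.Finite A (Module.Dual A C ⧸ range g.dualMap))
  refine ⟨Q, hQ, ⟨NatIso.ofComponents (fun M => ((e M).trans
    (ModuleCat.homLinearEquiv (M := Q) (N := M) (S := A)).symm).toModuleIso) fun {M N} f => ?_⟩⟩
  refine ModuleCat.hom_ext (LinearMap.ext fun t => ?_)
  obtain ⟨z, rfl⟩ := tcls_surjective hpq M t
  show (ModuleCat.homLinearEquiv (M := Q) (N := N) (S := A)).symm
      (e N (tmap P p f (tcls P p (p - 1) hpq M z))) =
    ((ModuleCat.homLinearEquiv (M := Q) (N := M) (S := A)).symm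
      (e M (tcls P p (p - 1) hpq M z))) ≫ f
  rw [map_tcls]
  simp only [e, sameKerEquiv_apply]
  refine ModuleCat.hom_ext (Submodule.linearMap_qext _ (LinearMap.ext fun ξ => ?_))
  show nu C N ((range (P.d (p + 1) p).hom).mkQ.rTensor N (f.hom.lTensor (P.X p) z)) ξ =
    f.hom (nu C M ((range (P.d (p + 1) p).hom).mkQ.rTensor M z) ξ)
  rw [comm_rTensor_lTensor, nu_natural]

end Groth.Agent.FCx40
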