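import Groth.Agent.FCx40.Semicont
import Groth.Agent.FCx40.Crit
import Mathlib.Algebra.Homology.HomologySequence
import Mathlib.RingTheory.Localization.Free
import Mathlib.RingTheory.Localization.FractionRing

namespace Groth.Agent.FCx40

open CategoryTheory TensorProduct LinearMap
open Function (Surjective Injective Exact Bijective)

universe u

variable {A : Type u} [CommRing A]

theorem flat_tensor_trans {B B' : Type u} [CommRing B] [Algebra A B] [CommRing B'] [Algebra A B'] (ψ : B →ₐ[A] B')
    (M : Type u) [AddCommGroup M] [Module A M] (h : Module.Flat B (B ⊗[A] M)) :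
    Module.Flat B' (B' ⊗[A] M) := by
  let _ : Algebra B B' := ψ.toRingHom.toAlgebra
  have : IsScalarTower A B B' := IsScalarTower.of_algebraMap_eq fun a => (ψ.commutes a).symm
  exact Module.Flat.of_linearEquiv (AlgebraTensorModule.cancelBaseChange A B B' B' M).symm

theorem exists_flat_away [IsDomain A] (M : Type u) [AddCommGroup M] [Module A M] [Module.FinitePresentation A M] :
    ∃ g : A, g ≠ 0 ∧ Module.Flat (Localization.Away g) (Localization.Away g ⊗[A] M) := by
  let K := FractionRing A
  obtain ⟨g, hg, hfree, -⟩ := Module.FinitePresentation.exists_free_localizedModule_powers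
    (nonZeroDivisors A) (LocalizedModule.mkLinearMap (nonZeroDivisors A) M) K
  refine ⟨g, nonZeroDivisors.ne_zero hg, ?_⟩
  have : Module.Free (Localization.Away g) (Localization.Away g ⊗[A] M) :=
    Module.Free.of_equiv (LocalizedModule.equivTensorProduct (Submonoid.powers g) M)
  infer_instance

variable {P : ChainComplex (ModuleCat.{u} A) ℤ}

theorem flat_bc_homology_iff (B : Type u) [CommRing B] [Algebra A B] [Module.Flat A B] (p : ℤ) :
    Module.Flat B ((CohIII.bcCx (algebraMap A B) P).homology p) ↔ Module.Flat B (B ⊗[A] P.homology p) :=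
  ⟨fun _ => Module.Flat.of_linearEquiv (bcEquiv B P (sub_add_cancel p 1) (lTensor_ker_of_flat _ _)),
    fun _ => Module.Flat.of_linearEquiv (bcEquiv B P (sub_add_cancel p 1) (lTensor_ker_of_flat _ _)).symm⟩

/-- Generic exactness in a range of degrees over a domain. -/
theorem exists_away_both [IsDomain A] (hP : ∀ i, Module.Flat A (P.X i)) (i₀ : ℤ)
    (hb : ∀ i < i₀, CategoryTheory.Limits.IsZero (P.X i)) (hfp : ∀ n, Module.FinitePresentation A (P.homology n))
    (N : ℤ) :
    ∃ f : A, f ≠ 0 ∧ ∀ p ≤ N,
      (CohIII.TFun (CohIII.bcCx (algebraMap A (Localization.Away f)) P) p).PreservesMonomorphisms ∧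
        (CohIII.TFun (CohIII.bcCx (algebraMap A (Localization.Away f)) P) p).PreservesEpimorphisms := by
  let C : ℤ → Type u := fun q => P.X (q - 1) ⧸ range (P.d q (q - 1)).hom
  have hlow : ∀ (B : Type u) [CommRing B] [Algebra A B] (q : ℤ), q ≤ i₀ →
      Module.Flat B (B ⊗[A] (P.X (q - 1) ⧸ range (P.d q (q - 1)).hom)) := fun B _ _ q hq => by
    have : Subsingleton (P.X (q - 1)) := ModuleCat.subsingleton_of_isZero (hb _ (by omega))
    infer_instance
  suffices H : ∀ n : ℕ, ∃ f : A, f ≠ 0 ∧ ∀ q ≤ i₀ + n,
      Module.Flat (Localization.Away f) (Localization.Away f ⊗[A] (P.X (q - 1) ⧸ range (P.d q (q - 1)).hom)) by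
    obtain ⟨f, hf, hflat⟩ := H ((N + 1 - i₀).toNat)
    refine ⟨f, hf, fun p hp => ⟨?_, ?_⟩⟩
    · rw [bc_preservesMono_iff _ hP (r := p + 1) rfl]
      have := hflat (p + 1) (by omega)
      rw [add_sub_cancel_right] at this
      exact this
    · rw [bc_preservesEpi_iff _ hP (sub_add_cancel p 1)]
      exact hflat p (by omega)
  intro n
  induction n with
  | zero => exact ⟨1, one_ne_zero, fun q hq => hlow _ q (by simpa using hq)⟩
  | succ n ih =>
    obtain ⟨f, hf, hflat⟩ := ih
    have := hfp (i₀ + n)
    obtain ⟨g, hg, hgflat⟩ := exists_flat_away (A := A) (P.homology (i₀ + n))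
    refine ⟨f * g, mul_ne_zero hf hg, fun q hq => ?_⟩
    let B := Localization.Away (f * g)
    have h1 : ∀ x : A, x ∣ f * g → ∀ y : Submonoid.powers x, IsUnit (algebraMap A B y) := by
      rintro x ⟨c, hc⟩ ⟨_, k, rfl⟩
      refine IsUnit.pow _ ?_ |>.map (RingHom.id B) |> fun h => by simpa using h
      exact isUnit_of_dvd_unit (map_dvd (algebraMap A B) ⟨c, hc⟩)
        (IsLocalization.map_units B (⟨f * g, Submonoid.mem_powers _⟩ : Submonoid.powers (f * g)))
    let ψf : Localization.Away f →ₐ[A] B := IsLocalization.liftAlgHom (f := Algebra.ofId A B) (h1 f (dvd_mul_right f g))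
    let ψg : Localization.Away g →ₐ[A] B := IsLocalization.liftAlgHom (f := Algebra.ofId A B) (h1 g (dvd_mul_left g f))
    rcases lt_or_eq_of_le (show q ≤ i₀ + n + 1 by push_cast at hq; omega) with hlt | heq
    · exact flat_tensor_trans ψf _ (hflat q (by omega))
    · subst heq
      have : Module.Flat A B := IsLocalization.flat B (Submonoid.powers (f * g))
      have hH : Module.Flat B ((CohIII.bcCx (algebraMap A B) P).homology (i₀ + n)) :=
        (flat_bc_homology_iff B _).mpr (flat_tensor_trans ψg _ hgflat)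
      have he := (bc_preservesEpi_iff B hP (sub_add_cancel (i₀ + n : ℤ) 1)).mpr
        (flat_tensor_trans ψf _ (hflat _ le_rfl))
      have hm := ((preservesBoth_iff (flat_bcCx B hP) (sub_add_cancel (i₀ + n : ℤ) 1)).mpr ⟨he, hH⟩).1
      rw [bc_preservesMono_iff B hP (r := i₀ + n + 1) rfl] at hm
      show Module.Flat B (B ⊗[A] (P.X (i₀ + n + 1 - 1) ⧸ range (P.d (i₀ + n + 1) (i₀ + n + 1 - 1)).hom))
      rw [add_sub_cancel_right]
      exact hm

/-- The short exact sequence of complexes `P ⊗ M' → P ⊗ M → P ⊗ M''`. -/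
noncomputable abbrev tSC (P : ChainComplex (ModuleCat.{u} A) ℤ) (S : ShortComplex (ModuleCat.{u} A)) :
    ShortComplex (ChainComplex (ModuleCat.{u} A) ℤ) :=
  ShortComplex.mk (CohIII.tensorMap P S.f) (CohIII.tensorMap P S.g) (by
    ext i : 1
    exact ModuleCat.hom_ext ((LinearMap.lTensor_comp _ S.g.hom S.f.hom).symm.trans
      (by rw [← ModuleCat.hom_comp, S.zero, ModuleCat.hom_zero, lTensor_zero]; rfl)))

theorem tSC_shortExact (hP : ∀ i, Module.Flat A (P.X i)) {S : ShortComplex (ModuleCat.{u} A)}
    (hS : S.ShortExact) : (tSC P S).ShortExact := by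
  refine HomologicalComplex.shortExact_of_degreewise_shortExact _ fun i => ?_
  have := hP i
  have hex : Exact S.f.hom S.g.hom := (ShortComplex.ShortExact.moduleCat_exact_iff_function_exact S).mp hS.exact
  exact ModuleCat.shortComplex_shortExact _ (lTensor_exact (P.X i) hex hS.moduleCat_surjective_g)
    (Module.Flat.lTensor_preserves_injective_linearMap S.f.hom hS.moduleCat_injective_f)
    (LinearMap.lTensor_surjective (P.X i) hS.moduleCat_surjective_g)

/-- Finiteness of `T_n` on finite modules. -/
theorem finite_T [IsNoetherianRing A] (hP : ∀ i, Module.Flat A (P.X i)) (i₀ : ℤ)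
    (hb : ∀ i < i₀, CategoryTheory.Limits.IsZero (P.X i)) (hfg : ∀ n, Module.Finite A (P.homology n))
    (n : ℤ) (M : ModuleCat.{u} A) [Module.Finite A M] : Module.Finite A (CohIII.T P n M) := by
  suffices H : ∀ (k : ℕ) (n : ℤ), n < i₀ + k → ∀ (M : ModuleCat.{u} A), Module.Finite A M →
      Module.Finite A (CohIII.T P n M) from H (n + 1 - i₀).toNat n (by omega) M inferInstance
  intro k
  induction k with
  | zero =>
    intro n hn M _
    have : Subsingleton (P.X n) := ModuleCat.subsingleton_of_isZero (hb _ (by simpa using hn))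
    have : Subsingleton (LinearMap.ker ((P.d n (n - 1)).hom.rTensor M)) := inferInstance
    exact Module.Finite.of_surjective _ (tcls_surjective (sub_add_cancel n 1) M)
  | succ k ih =>
    intro n hn M _
    obtain ⟨r, π, hπ⟩ := Module.Finite.exists_fin' A M
    let S : ShortComplex (ModuleCat.{u} A) :=
      ShortComplex.mk (ModuleCat.ofHom (LinearMap.ker π).subtype) (ModuleCat.ofHom π)
        (ModuleCat.hom_ext (LinearMap.comp_ker_subtype π))
    have hS : S.ShortExact := ModuleCat.shortComplex_shortExact _ (LinearMap.exact_subtype_ker_map π)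
      (Submodule.injective_subtype _) hπ
    have hex := (tSC_shortExact hP hS).homology_exact₃ n (n - 1) (sub_add_cancel n 1)
    rw [ShortComplex.moduleCat_exact_iff_range_eq_ker] at hex
    have h2 : Module.Finite A (CohIII.T P n S.X₂) :=
      Module.Finite.equiv (tEquiv (sub_add_cancel n 1) _ (rTensor_ker_of_flat _ (Fin r → A)))
    have h1 : Module.Finite A (CohIII.T P (n - 1) S.X₁) :=
      ih (n - 1) (by omega) _ (Module.Finite.iff_fg.mpr (IsNoetherian.noetherian _))
    have := isNoetherian_of_isNoetherianRing_of_finite A (CohIII.T P n S.X₂)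
    have := isNoetherian_of_isNoetherianRing_of_finite A (CohIII.T P (n - 1) S.X₁)
    have := isNoetherian_of_range_eq_ker _ _ hex
    exact Module.IsNoetherian.finite A _

theorem comm_baseChange {B X Y : Type u} [CommRing B] [Algebra A B] [AddCommGroup X] [Module A X] [AddCommGroup Y]
    [Module A Y] (d : X →ₗ[A] Y) (w : B ⊗[A] X) :
    TensorProduct.comm A B Y (d.baseChange B w) = d.rTensor B (TensorProduct.comm A B X w) := by
  induction w using TensorProduct.induction_on with
  | zero => simp
  | tmul a b => simp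
  | add a b ha hb => simp only [map_add, ha, hb]

theorem finite_bc_homology (B : Type u) [CommRing B] [Algebra A B] (n : ℤ)
    [Module.Finite A (CohIII.T P n (ModuleCat.of A B))] :
    Module.Finite B ((CohIII.bcCx (algebraMap A B) P).homology n) := by
  have hnn := sub_add_cancel n 1
  obtain ⟨r, g, hg⟩ := Module.Finite.exists_fin' A (CohIII.T P n (ModuleCat.of A B))
  choose z hz using fun i => tcls_surjective hnn (ModuleCat.of A B) (g (Pi.single i 1))
  let σ := TensorProduct.comm A B (P.X n)
  have hmem : ∀ i, σ.symm (z i : P.X n ⊗[A] B) ∈ LinearMap.ker ((P.d n (n - 1)).hom.baseChange B) := fun i => by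
    rw [LinearMap.mem_ker]
    apply (TensorProduct.comm A B (P.X (n - 1))).injective
    rw [map_zero, comm_baseChange, LinearEquiv.apply_symm_apply]
    exact LinearMap.mem_ker.mp (z i).2
  let y : Fin r → LinearMap.ker ((P.d n (n - 1)).hom.baseChange B) := fun i => ⟨_, hmem i⟩
  refine Module.Finite.of_surjective (Fintype.linearCombination B fun i => bcls B P hnn (y i)) fun t => ?_
  obtain ⟨⟨w, hw⟩, rfl⟩ := bcls_surjective B P hnn t
  have hw' : σ w ∈ LinearMap.ker ((P.d n (n - 1)).hom.rTensor B) :=
    LinearMap.mem_ker.mpr ((comm_baseChange _ w).symm.trans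
      ((congrArg _ (LinearMap.mem_ker.mp hw)).trans (map_zero _)))
  obtain ⟨a, ha⟩ := hg (tcls P n (n - 1) hnn (ModuleCat.of A B) ⟨σ w, hw'⟩)
  refine ⟨fun i => algebraMap A B (a i), ?_⟩
  have hsum : g a = tcls P n (n - 1) hnn (ModuleCat.of A B) (∑ i, a i • z i) := by
    rw [map_sum]
    conv_lhs => rw [pi_eq_sum_univ' a, map_sum]
    exact Finset.sum_congr rfl fun i _ => by rw [map_smul, map_smul, hz i]
  rw [hsum, ← sub_eq_zero, ← map_sub, tcls_eq_zero_iff hnn (r := n + 1) rfl] at ha
  obtain ⟨v, hv⟩ := ha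
  rw [Fintype.linearCombination_apply]
  simp only [← map_smul, ← map_sum]
  rw [← sub_eq_zero, ← map_sub, bcls_eq_zero_iff B P hnn (r := n + 1) rfl]
  refine ⟨(TensorProduct.comm A B (P.X (n + 1))).symm v, σ.injective ?_⟩
  rw [comm_baseChange, LinearEquiv.apply_symm_apply, hv]
  simp [σ, y, algebraMap_smul]

end Groth.Agent.FCx40
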