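import Groth.Agent.FCx40.Loci
import Groth.Agent.FCx40.Generic
import Groth.Agent.E4O.DvrDom
import Mathlib.RingTheory.Flat.Localization
import Mathlib.RingTheory.DedekindDomain.PID
import Mathlib.RingTheory.LocalProperties.Reduced

/-!
# The valuative criterion for flatness of a finite module over a reduced Noetherian ring
-/

namespace Groth.Agent.FCx40

open CategoryTheory TensorProduct LinearMap
open Function (Surjective Injective Exact Bijective)
open IsLocalRing (maximalIdeal closedPoint)

universe u

variable {A : Type u} [CommRing A]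

theorem finrank_field_eq_fib (C : Type u) [AddCommGroup C] [Module A C] (K : Type u) [Field K]
    [Algebra A K] (y : PrimeSpectrum A) (hy : y.asIdeal = RingHom.ker (algebraMap A K)) :
    Module.finrank K (K ⊗[A] C) = fib C y := by
  let k := y.asIdeal.ResidueField
  let m : k →+* K := Ideal.ResidueField.lift y.asIdeal (algebraMap A K) hy.le (fun s hs =>
    IsUnit.mk0 _ fun h0 => hs (by rw [SetLike.mem_coe, hy]; exact h0))
  letI : Algebra k K := m.toAlgebra
  haveI : IsScalarTower A k K := IsScalarTower.of_algebraMap_eq fun a =>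
    (Ideal.ResidueField.lift_algebraMap y.asIdeal (algebraMap A K) _ _ a).symm
  exact (AlgebraTensorModule.cancelBaseChange A k K K C).finrank_eq.symm.trans
    (Module.finrank_baseChange :
      Module.finrank K (K ⊗[k] (k ⊗[A] C)) = Module.finrank k (k ⊗[A] C))

theorem exists_dvr_algebra [IsNoetherianRing A] [IsLocalRing A] (y : PrimeSpectrum A)
    (hy : y.asIdeal ≠ maximalIdeal A) :
    ∃ (B : Type u) (_ : CommRing B) (_ : IsDomain B) (_ : IsDiscreteValuationRing B) (_ : Algebra A B),
      RingHom.ker (algebraMap A B) = y.asIdeal ∧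
        RingHom.ker ((IsLocalRing.residue B).comp (algebraMap A B)) = maximalIdeal A := by
  let R := A ⧸ y.asIdeal
  haveI : IsLocalRing R := IsLocalRing.of_surjective' (Ideal.Quotient.mk y.asIdeal)
    Ideal.Quotient.mk_surjective
  have hR : ¬ IsField R := fun h =>
    hy (IsLocalRing.eq_maximalIdeal (Ideal.Quotient.maximal_of_isField _ h))
  let K := FractionRing R
  obtain ⟨V, hV, hmem, hdom⟩ := E4O.exists_dvr_dominating hR K K
    ⟨∅, by rw [Finset.coe_empty, IntermediateField.adjoin_empty]; exact Subsingleton.elim _ _⟩
  let φ : A →+* V := ((algebraMap R K).codRestrict V.toSubring hmem).comp (Ideal.Quotient.mk _)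
  refine ⟨V, inferInstance, inferInstance, hV, φ.toAlgebra, ?_, ?_⟩
  · ext a
    rw [RingHom.mem_ker, ← Ideal.Quotient.eq_zero_iff_mem]
    constructor
    · intro h
      exact IsFractionRing.injective R K ((congrArg Subtype.val h).trans (map_zero _).symm)
    · intro h
      show φ a = 0
      simp only [φ, RingHom.comp_apply, h, map_zero]
  · have hle : maximalIdeal A ≤ RingHom.ker ((IsLocalRing.residue V).comp φ) := by
      intro a ha
      rw [RingHom.mem_ker, RingHom.comp_apply, IsLocalRing.residue_eq_zero_iff]
      change φ a ∈ nonunits V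
      intro hu
      have h1 : Ideal.Quotient.mk y.asIdeal a ∈ maximalIdeal R := by
        rw [IsLocalRing.mem_maximalIdeal, mem_nonunits_iff]
        intro hu'
        obtain ⟨b, hb⟩ := hu'.exists_right_inv
        obtain ⟨b, rfl⟩ := Ideal.Quotient.mk_surjective b
        rw [← map_mul, ← map_one (Ideal.Quotient.mk y.asIdeal), Ideal.Quotient.eq] at hb
        have := IsLocalRing.le_maximalIdeal y.isPrime.ne_top hb
        exact (maximalIdeal A).one_notMem (by
          simpa using (maximalIdeal A).sub_mem ((maximalIdeal A).mul_mem_right b ha) this)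
      exact (hdom _ h1).ne ((V.valuation_eq_one_iff (φ a)).1 hu)
    exact ((IsLocalRing.maximalIdeal.isMaximal A).eq_of_le (RingHom.ker_ne_top _) hle).symm

theorem free_of_forall_dvr [IsNoetherianRing A] [IsLocalRing A] [IsReduced A] (C : Type u)
    [AddCommGroup C] [Module A C] [Module.Finite A C]
    (h : ∀ (B : Type u) [CommRing B] [IsDomain B] [IsDiscreteValuationRing B] [Algebra A B],
      Module.Flat B (B ⊗[A] C)) : Module.Free A C := by
  refine free_of_fib_eq C fun y _ => ?_
  by_cases hy : y.asIdeal = maximalIdeal A
  · rw [show y = closedPoint A from PrimeSpectrum.ext hy]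
  obtain ⟨B, _, _, _, _, hgen, hsp⟩ := exists_dvr_algebra y hy
  have := h B
  haveI : Module.Free B (B ⊗[A] C) := Module.free_of_flat_of_isLocalRing
  let K := FractionRing B
  let k := IsLocalRing.ResidueField B
  have h1 := finrank_field_eq_fib C K y (by
    rw [← hgen, IsScalarTower.algebraMap_eq A B K,
      RingHom.ker_comp_of_injective _ (IsFractionRing.injective B K)])
  have h2 := finrank_field_eq_fib C k (closedPoint A) (by
    rw [IsScalarTower.algebraMap_eq A B k]; exact hsp.symm)
  rw [← h1, ← h2, ← (AlgebraTensorModule.cancelBaseChange A B K K C).finrank_eq,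
    ← (AlgebraTensorModule.cancelBaseChange A B k k C).finrank_eq,
    (Module.finrank_baseChange :
      Module.finrank K (K ⊗[B] (B ⊗[A] C)) = Module.finrank B (B ⊗[A] C)),
    (Module.finrank_baseChange :
      Module.finrank k (k ⊗[B] (B ⊗[A] C)) = Module.finrank B (B ⊗[A] C))]

theorem flat_of_forall_dvr [IsNoetherianRing A] [IsReduced A] (C : Type u)
    [AddCommGroup C] [Module A C] [Module.Finite A C]
    (h : ∀ (B : Type u) [CommRing B] [IsDomain B] [IsDiscreteValuationRing B] [Algebra A B],
      Module.Flat B (B ⊗[A] C)) : Module.Flat A C := by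
  refine Module.flat_of_localized_maximal C fun m _ => ?_
  let Am := Localization.AtPrime m
  haveI : IsNoetherianRing Am := IsLocalization.isNoetherianRing m.primeCompl Am inferInstance
  haveI : IsReduced Am := inferInstance
  haveI : Module.Free Am (Am ⊗[A] C) := by
    refine free_of_forall_dvr (Am ⊗[A] C) fun B _ _ _ _ => ?_
    letI : Algebra A B := ((algebraMap Am B).comp (algebraMap A Am)).toAlgebra
    haveI : IsScalarTower A Am B := IsScalarTower.of_algebraMap_eq fun a => rfl
    have := h B
    exact Module.Flat.of_linearEquiv (AlgebraTensorModule.cancelBaseChange A Am B B C)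
  haveI : Module.Flat Am (LocalizedModule m.primeCompl C) :=
    Module.Flat.of_linearEquiv (LocalizedModule.equivTensorProduct m.primeCompl C)
  exact Module.Flat.trans A Am (LocalizedModule m.primeCompl C)

theorem preservesEpi_iff_forall_dvr [IsNoetherianRing A] [IsReduced A]
    {P : ChainComplex (ModuleCat.{u} A) ℤ} (hP : ∀ i, Module.Finite A (P.X i) ∧ Module.Flat A (P.X i))
    (p : ℤ) :
    (CohIII.TFun P p).PreservesEpimorphisms ↔
      ∀ (B : Type u) [CommRing B] [IsDomain B] [IsDiscreteValuationRing B] [Algebra A B],
        (CohIII.TFun (CohIII.bcCx (algebraMap A B) P) p).PreservesEpimorphisms := by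
  constructor
  · intro h B _ _ _ _
    rw [bc_preservesEpi_iff B (fun i => (hP i).2) (sub_add_cancel p 1)]
    have := (preservesEpi_iff (fun i => (hP i).2) (sub_add_cancel p 1)).mp h
    infer_instance
  · intro h
    rw [preservesEpi_iff (fun i => (hP i).2) (sub_add_cancel p 1)]
    haveI := finite_coker (fun i => (hP i).1) p (p - 1)
    refine flat_of_forall_dvr _ fun B _ _ _ _ => ?_
    exact (bc_preservesEpi_iff B (fun i => (hP i).2) (sub_add_cancel p 1)).mp (h B)

end Groth.Agent.FCx40
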