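import Groth.Agent.FCx40.Bc
import Groth.Prelude.Def_DRing2
import Mathlib.Algebra.Category.ModuleCat.Monoidal.Adjunction
import Mathlib.Algebra.Category.ModuleCat.Descent
import Mathlib.Algebra.Homology.QuasiIso

/-!
# Tor and flat base change
-/

set_option autoImplicit false
universe u

open CategoryTheory CategoryTheory.Limits MonoidalCategory TensorProduct

namespace Groth.Agent.FCx40

variable {A A' : Type u} [CommRing A] [CommRing A'] [Algebra A A']

theorem nonempty_tor_flat_baseChange [Module.Flat A A'] (M N : Type u) [AddCommGroup M]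
    [Module A M] [AddCommGroup N] [Module A N] (n : ℕ) :
    Nonempty (TensorProduct A A' (DRing.Tor A n M N) ≃ₗ[A']
      DRing.Tor A' n (TensorProduct A A' M) (TensorProduct A A' N)) := by
  let f := algebraMap A A'
  let F := ModuleCat.extendScalars.{u, u, u} f
  haveI : PreservesFiniteLimits F :=
    ModuleCat.preservesFiniteLimits_extendScalars_of_flat (RingHom.flat_algebraMap_iff.2 inferInstance)
  haveI : F.IsLeftAdjoint := (ModuleCat.extendRestrictScalarsAdj f).isLeftAdjoint
  haveI : PreservesFiniteColimits F := inferInstance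
  haveI : F.Additive := Functor.additive_of_preserves_binary_products _
  haveI : F.PreservesHomology := inferInstance
  haveI : ∀ X : ModuleCat.{u} A, Projective X → Projective (F.obj X) := fun X hX =>
    (ModuleCat.extendRestrictScalarsAdj f).map_projective X hX
  let T := (tensoringLeft (ModuleCat.{u} A)).obj (ModuleCat.of A M)
  let T' := (tensoringLeft (ModuleCat.{u} A')).obj (F.obj (ModuleCat.of A M))
  let ν : F ⋙ T' ≅ T ⋙ F :=
    NatIso.ofComponents (fun X => Functor.Monoidal.μIso F (ModuleCat.of A M) X)
      (fun g => Functor.LaxMonoidal.μ_natural_right F (ModuleCat.of A M) g)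
  let R := projectiveResolution (ModuleCat.of A N)
  let π' := (F.mapHomologicalComplex _).map R.π ≫
    (HomologicalComplex.singleMapHomologicalComplex F (ComplexShape.down ℕ) 0).hom.app
      (ModuleCat.of A N)
  let R' : ProjectiveResolution (F.obj (ModuleCat.of A N)) :=
    { complex := (F.mapHomologicalComplex _).obj R.complex
      projective := fun i =>
        (ModuleCat.extendRestrictScalarsAdj f).map_projective _ (R.projective i)
      π := π'
      quasiIso := by
        haveI : QuasiIso ((F.mapHomologicalComplex (ComplexShape.down ℕ)).map R.π) := inferInstance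
        exact quasiIso_comp _ _ }
  let C := (T.mapHomologicalComplex (ComplexShape.down ℕ)).obj R.complex
  let TorA := ((Tor (ModuleCat.{u} A) n).obj (ModuleCat.of A M)).obj (ModuleCat.of A N)
  let e₁ : F.obj TorA ≅ F.obj (C.homology n) :=
    F.mapIso (R.isoLeftDerivedObj T n)
  let e₂ : ((F.mapHomologicalComplex _).obj C).homology n ≅ F.obj (C.homology n) :=
    (C.sc n).mapHomologyIso F
  let e₃ : ((T'.mapHomologicalComplex _).obj R'.complex).homology n ≅
      ((F.mapHomologicalComplex _).obj C).homology n :=
    (HomologicalComplex.homologyFunctor _ _ n).mapIso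
      ((NatIso.mapHomologicalComplex ν (ComplexShape.down ℕ)).app R.complex)
  let e₄ : ((Tor (ModuleCat.{u} A') n).obj (F.obj (ModuleCat.of A M))).obj
      (F.obj (ModuleCat.of A N)) ≅ ((T'.mapHomologicalComplex _).obj R'.complex).homology n :=
    R'.isoLeftDerivedObj T' n
  let eM := (extEquiv A' (ModuleCat.of A M)).toModuleIso
  let eN := (extEquiv A' (ModuleCat.of A N)).toModuleIso
  exact ⟨(extEquiv A' TorA).symm.trans
    ((e₁ ≪≫ e₂.symm ≪≫ e₃.symm ≪≫ e₄.symm ≪≫
      ((Tor (ModuleCat.{u} A') n).mapIso eM).app _ ≪≫
      ((Tor (ModuleCat.{u} A') n).obj _).mapIso eN).toLinearEquiv)⟩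

end Groth.Agent.FCx40
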