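import Groth.Agent.FCx40.Lin
import Groth.Agent.FCx40.Cls
import Mathlib.Algebra.Category.ModuleCat.Monoidal.Basic
import Mathlib.Algebra.Homology.HomotopyCategory.Acyclic
import Mathlib.CategoryTheory.Monoidal.Preadditive
import Mathlib.Algebra.Homology.HomotopyCategory.Pretriangulated
import Mathlib.Algebra.Category.ModuleCat.Biproducts

namespace Groth.Agent.FCx40

open CategoryTheory CategoryTheory.Limits TensorProduct
open LinearMap (range)
open Function (Surjective Injective Exact Bijective)

universe u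

variable {A : Type u} [CommRing A] (F : CochainComplex (ModuleCat.{u} A) ℤ)

theorem cprev (i : ℤ) : (ComplexShape.up ℤ).prev (i + 1) = i := ComplexShape.prev_eq' _ rfl

theorem cnext (i : ℤ) : (ComplexShape.up ℤ).next i = i + 1 := ComplexShape.next_eq' _ rfl

variable {F}

theorem exact_of_isZero_homology (i : ℤ) (h : IsZero (F.homology (i + 1))) :
    range (F.d i (i + 1)).hom = LinearMap.ker (F.d (i + 1) (i + 1 + 1)).hom := by
  refine le_antisymm ?_ fun z hz => ?_
  · rintro _ ⟨x, rfl⟩
    exact LinearMap.mem_ker.mpr (ConcreteCategory.congr_hom (F.d_comp_d i (i + 1) (i + 1 + 1)) x)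
  · have := ModuleCat.subsingleton_of_isZero h
    exact (hcls_eq_zero_iff (cprev i) (cnext (i + 1)) ⟨z, hz⟩).mp (Subsingleton.elim _ _)

/-- Cycles are flat above the range of cohomology. -/
theorem flat_ker_of_boundedAbove (hF : ∀ i, Module.Flat A (F.X i)) (b : ℤ) (hb : ∀ i, b < i → IsZero (F.X i))
    (d : ℤ) (hac : ∀ p, d < p → IsZero (F.homology p)) (i : ℤ) (hi : d ≤ i) :
    Module.Flat A (LinearMap.ker (F.d i (i + 1)).hom) := by
  suffices H : ∀ (n : ℕ) (i : ℤ), d ≤ i → b < i + n → Module.Flat A (LinearMap.ker (F.d i (i + 1)).hom) from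
    H (b + 1 - i).toNat i hi (by omega)
  intro n
  induction n with
  | zero =>
    intro i _ hi
    have : Subsingleton (F.X i) := ModuleCat.subsingleton_of_isZero (hb i (by simpa using hi))
    infer_instance
  | succ n ih =>
    intro i hid hi
    have h1 := ih (i + 1) (by omega) (by push_cast at hi; omega)
    have := hF i
    have he := exact_of_isZero_homology i (hac (i + 1) (by omega))
    rw [← he] at h1
    exact flat_of_exact_of_flat (Submodule.injective_subtype _)
      (by rw [LinearMap.exact_iff, LinearMap.ker_rangeRestrict, Submodule.range_subtype])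
      (F.d i (i + 1)).hom.surjective_rangeRestrict

/-- Bounded above acyclic complexes of flat modules stay acyclic after tensoring. -/
theorem isZero_homology_tensor (hF : ∀ i, Module.Flat A (F.X i)) (b : ℤ) (hb : ∀ i, b < i → IsZero (F.X i))
    (hac : ∀ p, IsZero (F.homology p)) (M : ModuleCat.{u} A) (n : ℤ) :
    IsZero ((((MonoidalCategory.tensorRight M).mapHomologicalComplex (ComplexShape.up ℤ)).obj F).homology n) := by
  obtain ⟨i, rfl⟩ : ∃ i, n = i + 1 := ⟨n - 1, by omega⟩
  let K := ((MonoidalCategory.tensorRight M).mapHomologicalComplex (ComplexShape.up ℤ)).obj F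
  have hZ : ∀ j, Module.Flat A (LinearMap.ker (F.d j (j + 1)).hom) := fun j =>
    flat_ker_of_boundedAbove hF b hb (j - 1) (fun p _ => hac p) j (by omega)
  have he : ∀ j, range (F.d j (j + 1)).hom = LinearMap.ker (F.d (j + 1) (j + 1 + 1)).hom := fun j =>
    exact_of_isZero_homology j (hac (j + 1))
  have := hF (i + 1 + 1)
  have : Module.Flat A (F.X (i + 1 + 1) ⧸ range (F.d (i + 1) (i + 1 + 1)).hom) := by
    have := hZ (i + 1 + 1 + 1)
    let e := (F.d (i + 1 + 1) (i + 1 + 1 + 1)).hom.quotKerEquivRange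
    have : Module.Flat A (range (F.d (i + 1 + 1) (i + 1 + 1 + 1)).hom) := by rw [he]; infer_instance
    exact Module.Flat.of_linearEquiv ((Submodule.quotEquivOfEq _ _ (he (i + 1))).trans e)
  obtain ⟨-, hk⟩ := rTensor_ker_of_flat_coker (F.d (i + 1) (i + 1 + 1)).hom M
  refine @ModuleCat.isZero_of_subsingleton _ _ (K.homology (i + 1)) (subsingleton_of_forall_eq 0 fun t => ?_)
  obtain ⟨⟨z, hz⟩, rfl⟩ := hcls_surjective (K := K) (j := i + 1) (k := i + 1 + 1) (cnext (i + 1)) t
  rw [hcls_eq_zero_iff (cprev i) (cnext (i + 1))]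
  obtain ⟨w, rfl⟩ := (hk z).mp hz
  let e := (F.d i (i + 1)).hom.codRestrict (LinearMap.ker (F.d (i + 1) (i + 1 + 1)).hom)
    (fun x => by rw [← he]; exact LinearMap.mem_range_self _ x)
  have hs : Surjective e := fun z => by
    obtain ⟨x, hx⟩ : (z : F.X (i + 1)) ∈ range (F.d i (i + 1)).hom := by rw [he]; exact z.2
    exact ⟨x, Subtype.ext hx⟩
  obtain ⟨v, rfl⟩ := LinearMap.rTensor_surjective M hs w
  refine ⟨v, ?_⟩
  show (F.d i (i + 1)).hom.rTensor M v = (LinearMap.ker (F.d (i + 1) (i + 1 + 1)).hom).subtype.rTensor M _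
  rw [← LinearMap.comp_apply, ← LinearMap.rTensor_comp, LinearMap.subtype_comp_codRestrict]

/-- A map is a quasi-isomorphism exactly when its cone is acyclic. -/
theorem quasiIso_iff_cone {C : Type*} [Category C] [Abelian C] {K L : CochainComplex C ℤ} (φ : K ⟶ L) :
    QuasiIso φ ↔ ∀ n, IsZero ((CochainComplex.mappingCone φ).homology n) := by
  have h := (HomotopyCategory.subcategoryAcyclic C).trW_iff_of_distinguished _
    (HomotopyCategory.mappingCone_triangleh_distinguished φ)
  rw [← HomotopyCategory.quasiIso_eq_trW_subcategoryAcyclic] at h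
  rw [← HomologicalComplex.mem_quasiIso_iff, ← HomotopyCategory.quotient_map_mem_quasiIso_iff]
  refine h.trans ((HomotopyCategory.quotient_obj_mem_subcategoryAcyclic_iff_exactAt _).trans ?_)
  exact forall_congr' fun n => HomologicalComplex.exactAt_iff_isZero_homology _ _

end Groth.Agent.FCx40
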