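import Groth.Agent.FCx40.LocFun
import Mathlib.Algebra.Module.LocalizedModule.Exact
import Mathlib.RingTheory.LocalProperties.Exactness
import Mathlib.Algebra.Homology.ShortComplex.ExactFunctor
import Mathlib.Algebra.Homology.ShortComplex.ModuleCat
import Mathlib.Algebra.Category.ModuleCat.ChangeOfRings

namespace Groth.Agent.FCx40

open CategoryTheory CategoryTheory.Limits
open Function (Surjective Injective Exact Bijective)

universe u

variable {A : Type u} [CommRing A]

/-- The localization of a short exact sequence, over the localized ring. -/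
noncomputable def locSC (S : Submonoid A) (K : ShortComplex (ModuleCat.{u} A)) :
    ShortComplex (ModuleCat.{u} (Localization S)) :=
  ShortComplex.mk (X₁ := ModuleCat.of _ (LocalizedModule S K.X₁)) (X₂ := ModuleCat.of _ (LocalizedModule S K.X₂))
    (X₃ := ModuleCat.of _ (LocalizedModule S K.X₃))
    (ModuleCat.ofHom (LocalizedModule.map S K.f.hom)) (ModuleCat.ofHom (LocalizedModule.map S K.g.hom))
    (ModuleCat.hom_ext (LinearMap.ext fun z => by
      induction z using LocalizedModule.induction_on with
      | _ x s =>
        show LocalizedModule.map S K.g.hom (LocalizedModule.map S K.f.hom (LocalizedModule.mk x s)) = 0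
        simp [LocalizedModule.map_mk, ← ConcreteCategory.comp_apply, K.zero]))

theorem locSC_shortExact (S : Submonoid A) (K : ShortComplex (ModuleCat.{u} A)) (hK : K.ShortExact) :
    (locSC S K).ShortExact :=
  ModuleCat.shortComplex_shortExact _
    (LocalizedModule.map_exact S _ _ ((ShortComplex.ShortExact.moduleCat_exact_iff_function_exact K).mp hK.exact))
    (LocalizedModule.map_injective S _ hK.moduleCat_injective_f)
    (LocalizedModule.map_surjective S _ hK.moduleCat_surjective_g)

/-- An additive bijection respecting scalars gives an isomorphism. -/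
noncomputable def addEquivIso {M N : ModuleCat.{u} A} (e : (M : Type u) ≃+ (N : Type u))
    (h : ∀ (a : A) (x : M), e (a • x) = a • e x) : M ≅ N :=
  (e.toLinearEquiv h).toModuleIso

/-- Restriction of scalars of a localized module. -/
noncomputable def locIso (S : Submonoid A) (M : ModuleCat.{u} A) :
    (ModuleCat.restrictScalars (algebraMap A (Localization S))).obj (ModuleCat.of _ (LocalizedModule S M)) ≅
      ModuleCat.of A (LocalizedModule S M) :=
  addEquivIso (AddEquiv.refl (LocalizedModule S M))
    (fun a z => algebraMap_smul (Localization S) a (show LocalizedModule S M from z))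

/-- The localized short complex, over the base ring. -/
noncomputable def locSCA (S : Submonoid A) (K : ShortComplex (ModuleCat.{u} A)) :
    ShortComplex (ModuleCat.{u} A) :=
  ShortComplex.mk (X₁ := ModuleCat.of A (LocalizedModule S K.X₁)) (X₂ := ModuleCat.of A (LocalizedModule S K.X₂))
    (X₃ := ModuleCat.of A (LocalizedModule S K.X₃))
    (ModuleCat.ofHom ((LocalizedModule.map S K.f.hom).restrictScalars A))
    (ModuleCat.ofHom ((LocalizedModule.map S K.g.hom).restrictScalars A))
    (ModuleCat.hom_ext (LinearMap.ext fun z => ConcreteCategory.congr_hom (locSC S K).zero z))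

/-- The two ways to localize a short complex agree. -/
noncomputable def locSCIso (S : Submonoid A) (K : ShortComplex (ModuleCat.{u} A)) :
    (locSC S K).map (ModuleCat.restrictScalars (algebraMap A (Localization S))) ≅ locSCA S K :=
  ShortComplex.isoMk (locIso S K.X₁) (locIso S K.X₂) (locIso S K.X₃) rfl rfl

variable (T : ModuleCat.{u} A ⥤ ModuleCat.{u} A) [T.Additive] [T.Linear A]
  (hT : ∀ (J : Type u) [SmallCategory J] [IsFiltered J], PreservesColimitsOfShape J T)
include hT

theorem map_eq_map (S : Submonoid A) {M N : ModuleCat.{u} A} (f : M ⟶ N) :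
    haveI := isLocalizedModule_map T hT S M
    haveI := isLocalizedModule_map T hT S N
    IsLocalizedModule.map S (T.map (ModuleCat.ofHom (LocalizedModule.mkLinearMap S M))).hom
      (T.map (ModuleCat.ofHom (LocalizedModule.mkLinearMap S N))).hom (T.map f).hom =
    (T.map (ModuleCat.ofHom ((LocalizedModule.map S f.hom).restrictScalars A) :
      ModuleCat.of A (LocalizedModule S M) ⟶ ModuleCat.of A (LocalizedModule S N))).hom := by
  have := isLocalizedModule_map T hT S M
  have := isLocalizedModule_map T hT S N
  apply IsLocalizedModule.linearMap_ext S (T.map (ModuleCat.ofHom (LocalizedModule.mkLinearMap S M))).hom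
    (T.map (ModuleCat.ofHom (LocalizedModule.mkLinearMap S N))).hom
  rw [IsLocalizedModule.map_comp, ← ModuleCat.hom_comp, ← ModuleCat.hom_comp, ← T.map_comp, ← T.map_comp]
  congr 2
  refine ModuleCat.hom_ext (LinearMap.ext fun x => ?_)
  show LocalizedModule.mk (f.hom x) 1 = LocalizedModule.map S f.hom (LocalizedModule.mk x 1)
  simp [LocalizedModule.map_mk]

theorem exact_map_of_local (K : ShortComplex (ModuleCat.{u} A)) (hK : K.ShortExact)
    (h : ∀ (m : Ideal A) [m.IsMaximal], ((locSCA m.primeCompl K).map T).Exact) : (K.map T).Exact := by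
  refine ModuleCat.shortComplex_exact _ ?_
  refine @exact_of_isLocalized_maximal A (T.obj K.X₁) (T.obj K.X₂) (T.obj K.X₃) _ _ _ _ _ _ _
    (fun m _ => T.obj (ModuleCat.of A (LocalizedModule m.primeCompl K.X₁))) _ _
    (fun m _ => (T.map (ModuleCat.ofHom (LocalizedModule.mkLinearMap m.primeCompl K.X₁))).hom)
    (fun m _ => isLocalizedModule_map T hT m.primeCompl K.X₁)
    (fun m _ => T.obj (ModuleCat.of A (LocalizedModule m.primeCompl K.X₂))) _ _
    (fun m _ => (T.map (ModuleCat.ofHom (LocalizedModule.mkLinearMap m.primeCompl K.X₂))).hom)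
    (fun m _ => isLocalizedModule_map T hT m.primeCompl K.X₂)
    (fun m _ => T.obj (ModuleCat.of A (LocalizedModule m.primeCompl K.X₃))) _ _
    (fun m _ => (T.map (ModuleCat.ofHom (LocalizedModule.mkLinearMap m.primeCompl K.X₃))).hom)
    (fun m _ => isLocalizedModule_map T hT m.primeCompl K.X₃)
    (T.map K.f).hom (T.map K.g).hom fun m _ => ?_
  rw [map_eq_map T hT, map_eq_map T hT]
  exact (ShortComplex.ShortExact.moduleCat_exact_iff_function_exact _).mp (h m)

theorem injective_map_of_local {M N : ModuleCat.{u} A} (f : M ⟶ N)
    (h : ∀ (m : Ideal A) [m.IsMaximal],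
      Injective (T.map (ModuleCat.ofHom ((LocalizedModule.map m.primeCompl f.hom).restrictScalars A) :
        ModuleCat.of A (LocalizedModule m.primeCompl M) ⟶ ModuleCat.of A (LocalizedModule m.primeCompl N))).hom) :
    Injective (T.map f).hom := by
  refine @injective_of_isLocalized_maximal A (T.obj M) (T.obj N) _ _ _ _ _
    (fun m _ => T.obj (ModuleCat.of A (LocalizedModule m.primeCompl M))) _ _
    (fun m _ => (T.map (ModuleCat.ofHom (LocalizedModule.mkLinearMap m.primeCompl M))).hom)
    (fun m _ => isLocalizedModule_map T hT m.primeCompl M)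
    (fun m _ => T.obj (ModuleCat.of A (LocalizedModule m.primeCompl N))) _ _
    (fun m _ => (T.map (ModuleCat.ofHom (LocalizedModule.mkLinearMap m.primeCompl N))).hom)
    (fun m _ => isLocalizedModule_map T hT m.primeCompl N) (T.map f).hom fun m _ => ?_
  rw [map_eq_map T hT]
  exact h m

theorem surjective_map_of_local {M N : ModuleCat.{u} A} (f : M ⟶ N)
    (h : ∀ (m : Ideal A) [m.IsMaximal],
      Surjective (T.map (ModuleCat.ofHom ((LocalizedModule.map m.primeCompl f.hom).restrictScalars A) :
        ModuleCat.of A (LocalizedModule m.primeCompl M) ⟶ ModuleCat.of A (LocalizedModule m.primeCompl N))).hom) :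
    Surjective (T.map f).hom := by
  refine @surjective_of_isLocalized_maximal A (T.obj M) (T.obj N) _ _ _ _ _
    (fun m _ => T.obj (ModuleCat.of A (LocalizedModule m.primeCompl M))) _ _
    (fun m _ => (T.map (ModuleCat.ofHom (LocalizedModule.mkLinearMap m.primeCompl M))).hom)
    (fun m _ => isLocalizedModule_map T hT m.primeCompl M)
    (fun m _ => T.obj (ModuleCat.of A (LocalizedModule m.primeCompl N))) _ _
    (fun m _ => (T.map (ModuleCat.ofHom (LocalizedModule.mkLinearMap m.primeCompl N))).hom)
    (fun m _ => isLocalizedModule_map T hT m.primeCompl N) (T.map f).hom fun m _ => ?_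
  rw [map_eq_map T hT]
  exact h m

theorem preservesFiniteLimits_of_local
    (h : ∀ (m : Ideal A) [m.IsMaximal],
      PreservesFiniteLimits (ModuleCat.restrictScalars (algebraMap A (Localization.AtPrime m)) ⋙ T)) :
    PreservesFiniteLimits T := by
  refine (T.preservesFiniteLimits_iff_forall_exact_map_and_mono).mpr fun K hK => ?_
  have hloc : ∀ (m : Ideal A) [m.IsMaximal], ((locSCA m.primeCompl K).map T).Exact ∧
      Mono (T.map (locSCA m.primeCompl K).f) := fun m _ => by
    have hm := h m
    obtain ⟨h1, h2⟩ := ((ModuleCat.restrictScalars (algebraMap A (Localization.AtPrime m)) ⋙ T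
      ).preservesFiniteLimits_iff_forall_exact_map_and_mono).mp inferInstance _ (locSC_shortExact m.primeCompl K hK)
    refine ⟨ShortComplex.exact_of_iso (T.mapShortComplex.mapIso (locSCIso m.primeCompl K)) h1, ?_⟩
    have e := (locSCIso m.primeCompl K).hom.comm₁₂
    have hi : IsIso (locSCIso m.primeCompl K).hom.τ₁ := inferInstance
    rw [show (locSCA m.primeCompl K).f = inv (locSCIso m.primeCompl K).hom.τ₁ ≫
      ((locSC m.primeCompl K).map (ModuleCat.restrictScalars (algebraMap A (Localization m.primeCompl)))).f ≫
        (locSCIso m.primeCompl K).hom.τ₂ from by rw [← e, IsIso.inv_hom_id_assoc], T.map_comp, T.map_comp]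
    have : Mono (T.map ((locSC m.primeCompl K).map
        (ModuleCat.restrictScalars (algebraMap A (Localization m.primeCompl)))).f) := h2
    exact mono_comp _ _
  exact ⟨exact_map_of_local T hT K hK fun m _ => (hloc m).1, (ModuleCat.mono_iff_injective _).mpr
    (injective_map_of_local T hT K.f fun m _ => (ModuleCat.mono_iff_injective _).mp (hloc m).2)⟩

theorem preservesFiniteColimits_of_local
    (h : ∀ (m : Ideal A) [m.IsMaximal],
      PreservesFiniteColimits (ModuleCat.restrictScalars (algebraMap A (Localization.AtPrime m)) ⋙ T)) :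
    PreservesFiniteColimits T := by
  refine (T.preservesFiniteColimits_iff_forall_exact_map_and_epi).mpr fun K hK => ?_
  have hloc : ∀ (m : Ideal A) [m.IsMaximal], ((locSCA m.primeCompl K).map T).Exact ∧
      Epi (T.map (locSCA m.primeCompl K).g) := fun m _ => by
    have hm := h m
    obtain ⟨h1, h2⟩ := ((ModuleCat.restrictScalars (algebraMap A (Localization.AtPrime m)) ⋙ T
      ).preservesFiniteColimits_iff_forall_exact_map_and_epi).mp inferInstance _ (locSC_shortExact m.primeCompl K hK)
    refine ⟨ShortComplex.exact_of_iso (T.mapShortComplex.mapIso (locSCIso m.primeCompl K)) h1, ?_⟩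
    have e := (locSCIso m.primeCompl K).hom.comm₂₃
    have hi : IsIso (locSCIso m.primeCompl K).hom.τ₂ := inferInstance
    rw [show (locSCA m.primeCompl K).g = inv (locSCIso m.primeCompl K).hom.τ₂ ≫
      ((locSC m.primeCompl K).map (ModuleCat.restrictScalars (algebraMap A (Localization m.primeCompl)))).g ≫
        (locSCIso m.primeCompl K).hom.τ₃ from by rw [← e, IsIso.inv_hom_id_assoc], T.map_comp, T.map_comp]
    have : Epi (T.map ((locSC m.primeCompl K).map
        (ModuleCat.restrictScalars (algebraMap A (Localization m.primeCompl)))).g) := h2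
    exact epi_comp _ _
  exact ⟨exact_map_of_local T hT K hK fun m _ => (hloc m).1, (ModuleCat.epi_iff_surjective _).mpr
    (surjective_map_of_local T hT K.g fun m _ => (ModuleCat.epi_iff_surjective _).mp (hloc m).2)⟩

end Groth.Agent.FCx40
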