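import Mathlib.Algebra.Category.ModuleCat.Colimits
import Mathlib.Algebra.Category.ModuleCat.FilteredColimits
import Mathlib.CategoryTheory.Limits.ConcreteCategory.Basic
import Mathlib.CategoryTheory.Linear.LinearFunctor
import Mathlib.Algebra.Module.LocalizedModule.Basic
import Mathlib.Algebra.Category.ModuleCat.Basic

namespace Groth.Agent.FCx40

open CategoryTheory CategoryTheory.Limits

universe u

variable {A : Type u} [CommRing A]

/-- Elements of a multiplicative set, ordered by multiplication. -/
structure LocIdx (S : Submonoid A) : Type u where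
  /-- The element. -/
  s : S

namespace LocIdx

variable {S : Submonoid A}

instance : SmallCategory (LocIdx S) where
  Hom a b := {v : S // a.s * v = b.s}
  id a := ⟨1, mul_one _⟩
  comp f g := ⟨f.1 * g.1, by rw [← mul_assoc, f.2, g.2]⟩
  id_comp f := Subtype.ext (one_mul _)
  comp_id f := Subtype.ext (mul_one _)
  assoc f g h := Subtype.ext (mul_assoc _ _ _)

instance : IsFiltered (LocIdx S) where
  cocone_objs a b := ⟨⟨a.s * b.s⟩, ⟨b.s, rfl⟩, ⟨a.s, mul_comm _ _⟩, trivial⟩
  cocone_maps {a b} f g := ⟨⟨b.s * a.s⟩, ⟨a.s, rfl⟩, Subtype.ext (by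
    show f.1 * a.s = g.1 * a.s
    rw [mul_comm f.1, f.2, mul_comm g.1, g.2])⟩
  nonempty := ⟨⟨1⟩⟩

variable (S) (M : ModuleCat.{u} A)

/-- The constant diagram with transition maps multiplication. -/
noncomputable def diagram : LocIdx S ⥤ ModuleCat.{u} A where
  obj _ := M
  map f := (f.1 : A) • 𝟙 M
  map_id _ := one_smul A _
  map_comp f g := by
    show ((f.1 * g.1 : S) : A) • 𝟙 M = _
    rw [Linear.comp_smul, Category.comp_id, smul_smul, Submonoid.coe_mul, mul_comm]

/-- Division by the index. -/
noncomputable def leg (a : LocIdx S) : M ⟶ ModuleCat.of A (LocalizedModule S M) :=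
  ModuleCat.ofHom
    { toFun := fun x : M => LocalizedModule.mk x a.s
      map_add' := fun x y => by
        rw [LocalizedModule.mk_add_mk, LocalizedModule.mk_eq]
        exact ⟨1, by simp [Submonoid.smul_def, smul_smul]⟩
      map_smul' := fun r x => by simp [LocalizedModule.smul'_mk] }

theorem leg_apply (a : LocIdx S) (x : M) : (leg S M a).hom x = LocalizedModule.mk x a.s := rfl

/-- The localization as a cocone. -/
noncomputable def cocone : Cocone (diagram S M) where
  pt := ModuleCat.of A (LocalizedModule S M)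
  ι :=
    { app := leg S M
      naturality := fun a b f => by
        refine ModuleCat.hom_ext (LinearMap.ext fun x => ?_)
        show LocalizedModule.mk ((f.1 : A) • (x : M)) b.s = LocalizedModule.mk (x : M) a.s
        refine LocalizedModule.mk_eq.mpr ⟨1, ?_⟩
        rw [one_smul, one_smul, Submonoid.smul_def, Submonoid.smul_def, smul_smul, ← Submonoid.coe_mul]
        exact congrArg (fun t : S => (t : A) • (x : M)) f.2 }

theorem cocone_map_eq (c : Cocone (diagram S M)) (a b : LocIdx S) (f : a ⟶ b) (x : M) :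
    (c.ι.app b).hom ((f.1 : A) • x) = (c.ι.app a).hom x :=
  ConcreteCategory.congr_hom (c.w f) x

/-- The localization is the colimit. -/
noncomputable def isColimit : IsColimit (cocone S M) where
  desc c := ModuleCat.ofHom
    { toFun := fun z : LocalizedModule S M =>
        LocalizedModule.liftOn z (fun p => (c.ι.app ⟨p.2⟩).hom (p.1 : M)) (by
          rintro ⟨x, s⟩ ⟨y, t⟩ ⟨w, hw⟩
          simp only [Submonoid.smul_def, smul_smul] at hw
          have h1 := cocone_map_eq S M c ⟨s⟩ ⟨s * t * w⟩ ⟨t * w, (mul_assoc _ _ _).symm⟩ x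
          have h2 := cocone_map_eq S M c ⟨t⟩ ⟨s * t * w⟩ ⟨s * w, by rw [← mul_assoc, mul_comm t s]⟩ y
          refine h1.symm.trans (Eq.trans ?_ h2)
          congr 1
          show ((t * w : S) : A) • x = ((s * w : S) : A) • y
          rw [Submonoid.coe_mul, Submonoid.coe_mul, mul_comm (t : A), mul_comm (s : A)]
          exact hw)
      map_add' := fun z z' => by
        induction z, z' using LocalizedModule.induction_on₂ with
        | _ x y s t =>
          rw [LocalizedModule.mk_add_mk, LocalizedModule.liftOn_mk, LocalizedModule.liftOn_mk,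
            LocalizedModule.liftOn_mk]
          refine (map_add ((c.ι.app ⟨s * t⟩).hom) _ _).trans (congr_arg₂ (· + ·) ?_ ?_)
          · exact cocone_map_eq S M c ⟨s⟩ ⟨s * t⟩ ⟨t, rfl⟩ x
          · exact cocone_map_eq S M c ⟨t⟩ ⟨s * t⟩ ⟨s, mul_comm _ _⟩ y
      map_smul' := fun r z => by
        induction z using LocalizedModule.induction_on with
        | _ x s =>
          rw [LocalizedModule.smul'_mk, LocalizedModule.liftOn_mk, LocalizedModule.liftOn_mk]
          exact map_smul _ r _ }
  fac c a := ModuleCat.hom_ext (LinearMap.ext fun _ => rfl)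
  uniq c m hm := ModuleCat.hom_ext (LinearMap.ext fun z => by
    induction z using LocalizedModule.induction_on with
    | _ x s => exact ConcreteCategory.congr_hom (hm ⟨s⟩) x)

end LocIdx

variable (T : ModuleCat.{u} A ⥤ ModuleCat.{u} A) [T.Additive] [T.Linear A]

theorem isLocalizedModule_map (hT : ∀ (J : Type u) [SmallCategory J] [IsFiltered J], PreservesColimitsOfShape J T)
    (S : Submonoid A) (M : ModuleCat.{u} A) :
    IsLocalizedModule S (T.map (ModuleCat.ofHom (LocalizedModule.mkLinearMap S M) :
      M ⟶ ModuleCat.of A (LocalizedModule S M))).hom := by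
  have := hT (LocIdx S)
  have hc := isColimitOfPreserves T (LocIdx.isColimit S M)
  refine ⟨fun s => ?_, fun y => ?_, fun {x₁ x₂} h => ?_⟩
  · rw [Module.End.isUnit_iff]
    obtain ⟨g, hg⟩ : ∃ g : ModuleCat.of A (LocalizedModule S M) ≅ ModuleCat.of A (LocalizedModule S M),
        g.hom = (s : A) • 𝟙 _ := by
      have hb : Function.Bijective fun z : LocalizedModule S M => (s : A) • z :=
        (Module.End.isUnit_iff _).mp (IsLocalizedModule.map_units (LocalizedModule.mkLinearMap S M) s)
      exact ⟨(LinearEquiv.ofBijective ((s : A) • LinearMap.id) hb).toModuleIso, rfl⟩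
    have h := (T.mapIso g).toLinearEquiv.bijective
    have e : (T.mapIso g).hom = (s : A) • 𝟙 _ := by rw [Functor.mapIso_hom, hg, T.map_smul, T.map_id]
    have e' : ∀ z, (T.mapIso g).toLinearEquiv z = (s : A) • z := fun z => ConcreteCategory.congr_hom e z
    rw [show ((algebraMap A (Module.End A _)) (s : A) : _ → _) = (T.mapIso g).toLinearEquiv from
      funext fun z => (e' z).symm]
    exact h
  · obtain ⟨⟨s⟩, x, hx⟩ := Concrete.isColimit_exists_rep _ hc y
    refine ⟨⟨x, s⟩, ?_⟩
    rw [← hx]
    show (s : A) • (T.map (LocIdx.leg S M ⟨s⟩)).hom x = _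
    have e : (s : A) • LocIdx.leg S M ⟨s⟩ = ModuleCat.ofHom (LocalizedModule.mkLinearMap S M) := by
      refine ModuleCat.hom_ext (LinearMap.ext fun m => ?_)
      show (s : A) • LocalizedModule.mk (m : M) s = LocalizedModule.mk (m : M) 1
      rw [LocalizedModule.smul'_mk]
      exact LocalizedModule.mk_cancel s m
    rw [← e, T.map_smul]
    rfl
  · have e : LocIdx.leg S M ⟨1⟩ = ModuleCat.ofHom (LocalizedModule.mkLinearMap S M) := rfl
    obtain ⟨k, f, g, hfg⟩ := (Concrete.isColimit_rep_eq_iff_exists (LocIdx.diagram S M ⋙ T) hc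
      (i := (⟨1⟩ : LocIdx S)) (j := (⟨1⟩ : LocIdx S)) x₁ x₂).mp h
    have hfg' : f = g := Subtype.ext ((one_mul _).symm.trans ((f.2.trans g.2.symm).trans (one_mul _)))
    refine ⟨f.1, ?_⟩
    subst hfg'
    have h3 : ∀ x : T.obj M, (T.map ((f.1 : A) • 𝟙 M)).hom x = f.1 • x := fun x => by
      rw [T.map_smul, T.map_id]; rfl
    exact (h3 _).symm.trans (hfg.trans (h3 _))

end Groth.Agent.FCx40
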