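import Groth.Agent.FCx40.Semicont
import Mathlib.LinearAlgebra.TensorProduct.Quotient
import Mathlib.RingTheory.Ideal.MinimalPrime.Basic
import Mathlib.RingTheory.Nilpotent.Lemmas

namespace Groth.Agent.FCx40

open CategoryTheory TensorProduct LinearMap
open Function (Surjective Injective Exact Bijective)

universe u

variable {A : Type u} [CommRing A]

/-- Over a local ring, lifting of cycles from the residue field makes the cokernel free. -/
theorem free_coker_of_lift [IsLocalRing A] {X Y : Type u} [AddCommGroup X] [Module A X] [Module.Finite A X]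
    [AddCommGroup Y] [Module A Y] [Module.Finite A Y] [Module.Free A Y] (d : X →ₗ[A] Y)
    (h : ∀ w : IsLocalRing.ResidueField A ⊗[A] X, d.lTensor _ w = 0 →
      ∃ x₀, d x₀ = 0 ∧ (1 : IsLocalRing.ResidueField A) ⊗ₜ[A] x₀ = w) :
    Module.Free A (Y ⧸ range d) := by
  refine Module.free_of_lTensor_residueField_injective (range d).subtype (range d).mkQ
    (Submodule.mkQ_surjective _) (LinearMap.exact_subtype_mkQ _) ?_
  rw [injective_iff_map_eq_zero]
  intro z hz
  obtain ⟨w, rfl⟩ := LinearMap.lTensor_surjective _ d.surjective_rangeRestrict z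
  have h1 : d.lTensor (IsLocalRing.ResidueField A) w = 0 := by
    rw [← LinearMap.comp_apply, ← lTensor_comp] at hz; exact hz
  obtain ⟨x₀, hx₀, rfl⟩ := h w h1
  have : d.rangeRestrict x₀ = 0 := Subtype.ext hx₀
  rw [lTensor_tmul, this, tmul_zero]

/-- Lifting of cycles from the quotient by every maximal ideal gives a flat cokernel. -/
theorem flat_coker_of_lift {X Y : Type u} [AddCommGroup X] [Module A X] [Module.Finite A X]
    [AddCommGroup Y] [Module A Y] [Module.FinitePresentation A Y] [Module.Flat A Y] (d : X →ₗ[A] Y)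
    (h : ∀ (m : Ideal A) [m.IsMaximal] (w : (A ⧸ m) ⊗[A] X), d.lTensor (A ⧸ m) w = 0 →
      ∃ x₀, d x₀ = 0 ∧ (1 : A ⧸ m) ⊗ₜ[A] x₀ = w) :
    Module.Flat A (Y ⧸ range d) := by
  have hfp : Module.FinitePresentation A (Y ⧸ range d) :=
    Module.finitePresentation_of_surjective _ (Submodule.mkQ_surjective _)
      (by rw [Submodule.ker_mkQ, LinearMap.range_eq_map]; exact Module.Finite.fg_top.map d)
  have : Module.Projective A (Y ⧸ range d) := by
    refine Module.projective_of_localization_maximal fun m hm => ?_
    let B := Localization.AtPrime m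
    let Ad := d.baseChange B
    have hflat : Module.Free B (B ⊗[A] Y) := Module.free_of_flat_of_isLocalRing
    let k := IsLocalRing.ResidueField B
    have hk : Surjective (algebraMap A k) := Ideal.algebraMap_residueField_surjective m
    let π : (A ⧸ m) →ₐ[A] k := Ideal.Quotient.liftₐ m (Algebra.ofId A k) fun a ha => by
      have := Ideal.ker_algebraMap_residueField m
      rw [← this] at ha
      exact ha
    have hπ : Bijective π := by
      refine ⟨?_, fun c => ?_⟩
      · refine (injective_iff_map_eq_zero π).mpr fun c hc => ?_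
        obtain ⟨a, rfl⟩ := Ideal.Quotient.mk_surjective c
        rw [Ideal.Quotient.eq_zero_iff_mem, ← Ideal.ker_algebraMap_residueField m]
        exact hc
      · obtain ⟨a, ha⟩ := hk c
        exact ⟨Ideal.Quotient.mk m a, ha⟩
    let e : (A ⧸ m) ≃ₗ[A] k := LinearEquiv.ofBijective π.toLinearMap hπ
    have hfree : Module.Free B ((B ⊗[A] Y) ⧸ range Ad) := by
      refine free_coker_of_lift Ad fun w hw => ?_
      let c := AlgebraTensorModule.cancelBaseChange A B B k X
      let c' := AlgebraTensorModule.cancelBaseChange A B B k Y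
      have hc : ∀ w, c' (Ad.lTensor k w) = d.lTensor k (c w) := by
        intro w
        induction w using TensorProduct.induction_on with
        | zero => simp
        | tmul s t =>
          induction t using TensorProduct.induction_on with
          | zero => simp
          | tmul b x => simp [c, c', Ad]
          | add x y hx hy => simp only [tmul_add, map_add, hx, hy]
        | add x y hx hy => simp only [map_add, hx, hy]
      let v := (e.symm.toLinearMap.rTensor X) (c w)
      have hv : d.lTensor (A ⧸ m) v = 0 := by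
        show d.lTensor _ (e.symm.toLinearMap.rTensor X (c w)) = 0
        rw [← LinearMap.comp_apply, lTensor_comp_rTensor, ← rTensor_comp_lTensor, LinearMap.comp_apply, ← hc,
          hw, map_zero, map_zero]
      obtain ⟨x₀, hx₀, hx₀'⟩ := h m v hv
      refine ⟨(1 : B) ⊗ₜ x₀, by show d.baseChange B _ = 0; rw [baseChange_tmul, hx₀, tmul_zero], ?_⟩
      apply c.injective
      have he : e.toLinearMap.rTensor X v = c w := by
        show e.toLinearMap.rTensor X (e.symm.toLinearMap.rTensor X (c w)) = c w
        rw [← LinearMap.comp_apply, ← rTensor_comp, LinearEquiv.comp_coe, LinearEquiv.symm_trans_self,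
          LinearEquiv.refl_toLinearMap, rTensor_id, LinearMap.id_apply]
      rw [← he, ← hx₀']
      simp [c, e]
    let q : (B ⊗[A] Y ⧸ range Ad) ≃ₗ[B] B ⊗[A] (Y ⧸ range d) :=
      sameKerEquiv (range Ad).mkQ ((range d).mkQ.baseChange B) (Submodule.mkQ_surjective _)
        (LinearMap.lTensor_surjective B (Submodule.mkQ_surjective _)) (by
          rw [Submodule.ker_mkQ]
          ext y
          exact (lTensor_exact B d.exact_map_mkQ_range (Submodule.mkQ_surjective _) y).symm)
    have : Module.Free B (LocalizedModule m.primeCompl (Y ⧸ range d)) :=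
      Module.Free.of_equiv (q.trans (LocalizedModule.equivTensorProduct m.primeCompl (Y ⧸ range d)).symm)
    exact Module.Projective.of_free
  infer_instance

theorem exists_gens_at (M : Type u) [AddCommGroup M] [Module A M] [Module.Finite A M] (x : PrimeSpectrum A) :
    ∃ a : Fin (fib M x) → M, x ∉ Module.support A (M ⧸ Submodule.span A (Set.range a)) := by
  let K := x.asIdeal.ResidueField
  obtain ⟨κ, a, ha, hsp, hli⟩ := exists_linearIndependent' K (fun m : M => (1 : K) ⊗ₜ[A] m)
  have htop : Submodule.span K (Set.range ((fun m : M => (1 : K) ⊗ₜ[A] m) ∘ a)) = ⊤ := by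
    rw [hsp, ← Set.image_univ]
    exact span_one_tmul_eq_top K M Submodule.span_univ
  let b := Module.Basis.mk hli htop.ge
  have : Fintype κ := @Fintype.ofFinite κ (Module.Finite.finite_basis b)
  have hcard : fib M x = Fintype.card κ := Module.finrank_eq_card_basis b
  let e : Fin (fib M x) ≃ κ := (finCongr hcard).trans (Fintype.equivFin κ).symm
  refine ⟨a ∘ e, ?_⟩
  have hS : Set.range (a ∘ e) = Set.range a := e.surjective.range_comp a
  rw [hS]
  rw [Module.mem_support_iff_nontrivial_residueField_tensorProduct, not_nontrivial_iff_subsingleton]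
  refine subsingleton_of_forall_eq 0 fun z => ?_
  let S := Submodule.span A (Set.range a)
  obtain ⟨w, rfl⟩ := LinearMap.lTensor_surjective K S.mkQ_surjective z
  have hw : w ∈ Submodule.span K (Set.range ((fun m : M => (1 : K) ⊗ₜ[A] m) ∘ a)) := by rw [htop]; trivial
  show S.mkQ.baseChange K w = 0
  revert w
  refine fun w hw => LinearMap.mem_ker.mp ((Submodule.span_le.mpr ?_) hw)
  rintro _ ⟨i, rfl⟩
  show S.mkQ.baseChange K ((1 : K) ⊗ₜ[A] a i) = 0
  rw [baseChange_tmul, Submodule.mkQ_apply,
    (Submodule.Quotient.mk_eq_zero S).mpr (Submodule.subset_span ⟨i, rfl⟩), tmul_zero]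

/-- Over a reduced local ring, constant fibre dimension at the minimal primes forces freeness. -/
theorem free_of_fib_eq [IsLocalRing A] [IsReduced A] (M : Type u) [AddCommGroup M] [Module A M]
    [Module.Finite A M]
    (h : ∀ q : PrimeSpectrum A, q.asIdeal ∈ minimalPrimes A → fib M q = fib M (IsLocalRing.closedPoint A)) :
    Module.Free A M := by
  obtain ⟨a, ha⟩ := exists_gens_at M (IsLocalRing.closedPoint A)
  let f := Fintype.linearCombination A a
  have hsub : Subsingleton (M ⧸ range f) := by
    have hr : range f = Submodule.span A (Set.range a) := Fintype.range_linearCombination A a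
    rw [hr]
    rw [← Module.support_eq_empty_iff (R := A), Set.eq_empty_iff_forall_notMem]
    intro y hy
    exact ha (Module.mem_support_mono (IsLocalRing.le_maximalIdeal y.isPrime.ne_top) hy)
  have hf : Surjective f := range_eq_top.mp (Submodule.Quotient.subsingleton_iff.mp hsub)
  refine Module.Free.of_equiv (LinearEquiv.ofBijective f ⟨(injective_iff_map_eq_zero f).mpr fun z hz => ?_, hf⟩)
  funext i
  have hmem : z i ∈ sInf (⊥ : Ideal A).minimalPrimes := by
    rw [Ideal.mem_sInf]
    intro q hq
    have hqp : q.IsPrime := hq.1.1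
    let K := q.ResidueField
    have hsur : Surjective (f.baseChange K) := LinearMap.lTensor_surjective K hf
    have : Nontrivial A := inferInstance
    have hfr : Module.finrank K (K ⊗[A] (Fin (fib M (IsLocalRing.closedPoint A)) → A)) =
        Module.finrank K (K ⊗[A] M) := by
      rw [Module.finrank_baseChange, Module.finrank_fin_fun]
      exact (h ⟨q, hqp⟩ hq).symm
    have hinj : Injective (f.baseChange K) := (injective_iff_surjective_of_finrank_eq_finrank hfr).mpr hsur
    have h0 : (1 : K) ⊗ₜ[A] z = 0 := hinj (by rw [baseChange_tmul, hz, tmul_zero, map_zero])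
    have h1 := congrArg (fun t => (TensorProduct.lid A K) ((LinearMap.proj i).lTensor K t |> TensorProduct.comm A K A)) h0
    simp only [lTensor_tmul, LinearMap.proj_apply, TensorProduct.comm_tmul, TensorProduct.lid_tmul, map_zero] at h1
    rw [← Ideal.ker_algebraMap_residueField q, RingHom.mem_ker, Algebra.algebraMap_eq_smul_one]
    exact h1
  rw [Ideal.sInf_minimalPrimes] at hmem
  obtain ⟨n, hn⟩ := hmem
  exact IsReduced.eq_zero _ ⟨n, hn⟩

/-- Moving `d ⊗ 1` across the symmetry of the tensor product. -/
theorem rTensor_comm {X Y M : Type u} [AddCommGroup X] [Module A X] [AddCommGroup Y] [Module A Y] [AddCommGroup M]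
    [Module A M] (d : X →ₗ[A] Y) (w : M ⊗[A] X) :
    d.rTensor M (TensorProduct.comm A M X w) = TensorProduct.comm A M Y (d.lTensor M w) := by
  induction w using TensorProduct.induction_on with
  | zero => simp
  | tmul a b => simp
  | add a b ha hb => simp only [map_add, ha, hb]

variable {P : ChainComplex (ModuleCat.{u} A) ℤ} {p q r : ℤ}

theorem map_surjective_residue_iff (hpq : q + 1 = p) (K : Type u) [CommRing K] [Algebra A K]
    (hK : Surjective (algebraMap A K)) :
    Surjective (tmap P p (ModuleCat.ofHom (Algebra.linearMap A K))) ↔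
      ∀ w : K ⊗[A] P.X p, (P.d p q).hom.lTensor K w = 0 →
        ∃ x₀, (P.d p q).hom x₀ = 0 ∧ (1 : K) ⊗ₜ[A] x₀ = w := by
  rw [map_surjective_iff hpq _ hK]
  constructor
  · intro h w hw
    obtain ⟨x, hx, hx'⟩ := h (TensorProduct.comm A _ _ w) (by
      show (P.d p q).hom.rTensor K _ = 0
      rw [rTensor_comm, hw, map_zero])
    obtain ⟨x₀, rfl⟩ : ∃ x₀, x = x₀ ⊗ₜ[A] (1 : A) := ⟨TensorProduct.rid A _ x, ((TensorProduct.rid A _).symm_apply_apply x).symm⟩
    refine ⟨x₀, ?_, (TensorProduct.comm A K (P.X p)).injective ?_⟩
    · have h2 := congrArg (TensorProduct.rid A _) hx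
      rw [map_zero, rTensor_tmul] at h2
      exact (one_smul A _).symm.trans h2
    · rw [← hx', TensorProduct.comm_tmul]
      show x₀ ⊗ₜ[A] (1 : K) = (Algebra.linearMap A K).lTensor _ (x₀ ⊗ₜ[A] (1 : A))
      rw [lTensor_tmul, Algebra.linearMap_apply, map_one]
  · intro h x'' hx''
    obtain ⟨x₀, hx₀, hx₀'⟩ := h ((TensorProduct.comm A K (P.X p)).symm x'') (by
      apply (TensorProduct.comm A K (P.X q)).injective
      rw [← rTensor_comm, LinearEquiv.apply_symm_apply, map_zero]
      exact hx'')
    refine ⟨x₀ ⊗ₜ[A] (1 : A), ?_, ?_⟩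
    · show (P.d p q).hom.rTensor A _ = 0
      rw [rTensor_tmul, hx₀, zero_tmul]
    · have h2 := congrArg (TensorProduct.comm A K (P.X p)) hx₀'
      rw [LinearEquiv.apply_symm_apply, TensorProduct.comm_tmul] at h2
      rw [← h2]
      show (Algebra.linearMap A K).lTensor _ (x₀ ⊗ₜ[A] (1 : A)) = x₀ ⊗ₜ[A] (1 : K)
      rw [lTensor_tmul, Algebra.linearMap_apply, map_one]

/-- Over a local ring, lifting cycles from the residue field is enough for right exactness. -/
theorem preservesEpi_iff_surjective_residue [IsLocalRing A]
    (hP : ∀ i, Module.Finite A (P.X i) ∧ Module.Flat A (P.X i)) (hpq : q + 1 = p) :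
    (CohIII.TFun P p).PreservesEpimorphisms ↔
      Surjective (tmap P p (ModuleCat.ofHom (Algebra.linearMap A (IsLocalRing.ResidueField A)))) := by
  refine ⟨fun h => ?_, fun h => ?_⟩
  · have : Epi (ModuleCat.ofHom (Algebra.linearMap A (IsLocalRing.ResidueField A))) :=
      (ModuleCat.epi_iff_surjective _).mpr IsLocalRing.residue_surjective
    exact (ModuleCat.epi_iff_surjective _).mp (h.preserves _)
  · have := (hP p).1
    have := (hP q).1
    have := (hP q).2
    have : Module.Free A (P.X q) := Module.free_of_flat_of_isLocalRing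
    have := free_coker_of_lift (P.d p q).hom
      ((map_surjective_residue_iff hpq _ IsLocalRing.residue_surjective).mp h)
    exact (preservesEpi_iff (fun i => (hP i).2) hpq).mpr inferInstance

end Groth.Agent.FCx40
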