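import Groth.Agent.FCx40.Bc
import Mathlib.RingTheory.LocalRing.Module
import Mathlib.RingTheory.Spectrum.Prime.Module
import Mathlib.RingTheory.Spectrum.Prime.FreeLocus
import Mathlib.LinearAlgebra.Dimension.Constructions
import Mathlib.Topology.Semicontinuity.Basic

namespace Groth.Agent.FCx40

open CategoryTheory TensorProduct LinearMap
open Function (Surjective Injective Exact Bijective)

universe u

/-- Dimension count for the homology of three terms over a field. -/
theorem finrank_homology_add {K : Type u} [Field K] {U V W : Type u} [AddCommGroup U] [Module K U]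
    [AddCommGroup V] [Module K V] [AddCommGroup W] [Module K W] [FiniteDimensional K V] [FiniteDimensional K W]
    (f : U →ₗ[K] V) (g : V →ₗ[K] W) (hgf : g ∘ₗ f = 0) {H : Type u} [AddCommGroup H] [Module K H]
    (ψ : ker g →ₗ[K] H) (hψ : Surjective ψ) (hker : LinearMap.ker ψ = (range f).comap (ker g).subtype) :
    Module.finrank K H + Module.finrank K W =
      Module.finrank K (V ⧸ range f) + Module.finrank K (W ⧸ range g) := by
  rw [← (ψ.quotKerEquivOfSurjective hψ).finrank_eq, hker]
  have hle : range f ≤ ker g := by
    rintro _ ⟨x, rfl⟩; exact LinearMap.congr_fun hgf x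
  have h1 := Submodule.finrank_quotient_add_finrank ((range f).comap (ker g).subtype)
  have h2 := (Submodule.comapSubtypeEquivOfLe hle).finrank_eq
  have h3 := Submodule.finrank_quotient_add_finrank (range f)
  have h4 := LinearMap.finrank_range_add_finrank_ker g
  have h5 := Submodule.finrank_quotient_add_finrank (range g)
  omega

variable {A : Type u} [CommRing A]

/-- The dimension of a module at a point. -/
noncomputable def fib (M : Type u) [AddCommGroup M] [Module A M] (x : PrimeSpectrum A) : ℕ :=
  Module.finrank x.asIdeal.ResidueField (x.asIdeal.ResidueField ⊗[A] M)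

theorem fib_congr {M N : Type u} [AddCommGroup M] [Module A M] [AddCommGroup N] [Module A N]
    (e : M ≃ₗ[A] N) (x : PrimeSpectrum A) : fib M x = fib N x :=
  (e.baseChange A x.asIdeal.ResidueField M N).finrank_eq

theorem fib_eq_rankAtStalk (M : Type u) [AddCommGroup M] [Module A M] [Module.Flat A M] [Module.Finite A M]
    (x : PrimeSpectrum A) : fib M x = Module.rankAtStalk M x :=
  (Module.rankAtStalk_eq x).symm

theorem span_one_tmul_eq_top (K : Type u) [CommRing K] [Algebra A K] (M : Type u) [AddCommGroup M] [Module A M]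
    {s : Set M} (hs : Submodule.span A s = ⊤) :
    Submodule.span K ((fun m : M => (1 : K) ⊗ₜ[A] m) '' s) = ⊤ := by
  have h1 : ∀ m : M, (1 : K) ⊗ₜ[A] m ∈ Submodule.span K ((fun m : M => (1 : K) ⊗ₜ[A] m) '' s) := fun m => by
    have hm : m ∈ Submodule.span A s := by rw [hs]; trivial
    induction hm using Submodule.span_induction with
    | mem m hm => exact Submodule.subset_span ⟨m, hm, rfl⟩
    | zero => simp
    | add x y _ _ hx hy => rw [tmul_add]; exact add_mem hx hy
    | smul a x _ hx => rw [tmul_smul]; exact Submodule.smul_of_tower_mem _ a hx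
  rw [eq_top_iff]
  rintro y -
  induction y using TensorProduct.induction_on with
  | zero => simp
  | tmul c m =>
    have : c ⊗ₜ[A] m = c • ((1 : K) ⊗ₜ[A] m) := by rw [smul_tmul', smul_eq_mul, mul_one]
    rw [this]
    exact Submodule.smul_mem _ _ (h1 m)
  | add x y hx hy => exact add_mem hx hy

theorem upperSemicontinuous_fib (M : Type u) [AddCommGroup M] [Module A M] [Module.Finite A M] :
    UpperSemicontinuous (fib (A := A) M) := by
  rw [upperSemicontinuous_iff]
  intro x
  rw [upperSemicontinuousAt_iff]
  intro y hy
  let K := x.asIdeal.ResidueField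
  obtain ⟨κ, a, ha, hsp, hli⟩ := exists_linearIndependent' K (fun m : M => (1 : K) ⊗ₜ[A] m)
  have htop : Submodule.span K (Set.range ((fun m : M => (1 : K) ⊗ₜ[A] m) ∘ a)) = ⊤ := by
    rw [hsp, ← Set.image_univ]
    exact span_one_tmul_eq_top K M Submodule.span_univ
  let b := Module.Basis.mk hli htop.ge
  have : Fintype κ := @Fintype.ofFinite κ (Module.Finite.finite_basis b)
  have hcard : fib M x = Fintype.card κ := Module.finrank_eq_card_basis b
  let S := Submodule.span A (Set.range a)
  have hx : x ∉ Module.support A (M ⧸ S) := by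
    rw [Module.mem_support_iff_nontrivial_residueField_tensorProduct, not_nontrivial_iff_subsingleton]
    refine subsingleton_of_forall_eq 0 fun z => ?_
    obtain ⟨w, rfl⟩ := LinearMap.lTensor_surjective K S.mkQ_surjective z
    have hw : w ∈ Submodule.span K (Set.range ((fun m : M => (1 : K) ⊗ₜ[A] m) ∘ a)) := by rw [htop]; trivial
    show S.mkQ.baseChange K w = 0
    revert w
    refine fun w hw => LinearMap.mem_ker.mp ((Submodule.span_le.mpr ?_) hw)
    rintro _ ⟨i, rfl⟩
    show S.mkQ.baseChange K ((1 : K) ⊗ₜ[A] a i) = 0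
    rw [baseChange_tmul, Submodule.mkQ_apply,
      (Submodule.Quotient.mk_eq_zero S).mpr (Submodule.subset_span ⟨i, rfl⟩), tmul_zero]
  have hopen : IsOpen (Module.support A (M ⧸ S))ᶜ := Module.isClosed_support.isOpen_compl
  filter_upwards [hopen.mem_nhds hx] with z hz
  refine lt_of_le_of_lt ?_ hy
  show fib M z ≤ fib M x
  rw [Set.mem_compl_iff, Module.mem_support_iff_nontrivial_residueField_tensorProduct,
    not_nontrivial_iff_subsingleton] at hz
  let L := z.asIdeal.ResidueField
  let φ : (L ⊗[A] (κ → A)) →ₗ[L] L ⊗[A] M := (Fintype.linearCombination A a).baseChange L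
  have hφ : Surjective φ := by
    intro w
    have hex := lTensor_exact L (LinearMap.exact_map_mkQ_range (Fintype.linearCombination A a))
      (Submodule.mkQ_surjective _)
    have hr : range (Fintype.linearCombination A a) = S := Fintype.range_linearCombination A a
    have : Subsingleton (L ⊗[A] (M ⧸ range (Fintype.linearCombination A a))) := by rw [hr]; exact hz
    exact (hex w).mp (Subsingleton.elim _ _)
  have : Nontrivial A := PrimeSpectrum.nonempty_iff_nontrivial.mp ⟨x⟩
  calc fib M z ≤ Module.finrank L (L ⊗[A] (κ → A)) := LinearMap.finrank_le_finrank_of_surjective hφ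
    _ = Fintype.card κ := by rw [Module.finrank_baseChange, Module.finrank_fintype_fun_eq_card]
    _ = fib M x := hcard.symm

section Formula

variable (K : Type u) [Field K] [Algebra A K] {P : ChainComplex (ModuleCat.{u} A) ℤ} {p q r : ℤ}

theorem finrank_bc_homology_add (hpq : q + 1 = p) (hpr : p + 1 = r) [Module.Finite A (P.X p)]
    [Module.Finite A (P.X q)] :
    Module.finrank K ((CohIII.bcCx (algebraMap A K) P).homology p) + Module.finrank K (K ⊗[A] P.X q) =
      Module.finrank K (K ⊗[A] (P.X p ⧸ range (P.d r p).hom)) +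
        Module.finrank K (K ⊗[A] (P.X q ⧸ range (P.d p q).hom)) := by
  have hgf : (P.d p q).hom.baseChange K ∘ₗ (P.d r p).hom.baseChange K = 0 := by
    rw [← baseChange_comp, ← ModuleCat.hom_comp, P.d_comp_d, ModuleCat.hom_zero, baseChange_zero]
  have h := finrank_homology_add _ _ hgf (bcls K P hpq) (bcls_surjective K P hpq) (ker_bcls K P hpq hpr)
  have key : ∀ i j : ℤ, Module.finrank K ((K ⊗[A] P.X j) ⧸ range ((P.d i j).hom.baseChange K)) =
      Module.finrank K (K ⊗[A] (P.X j ⧸ range (P.d i j).hom)) := fun i j => by
    refine LinearEquiv.finrank_eq ((Submodule.quotEquivOfEq _ (ker ((range (P.d i j).hom).mkQ.baseChange K)) ?_).trans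
      (((range (P.d i j).hom).mkQ.baseChange K).quotKerEquivOfSurjective
        (LinearMap.lTensor_surjective K (Submodule.mkQ_surjective _))))
    ext y
    exact (lTensor_exact K (P.d i j).hom.exact_map_mkQ_range (Submodule.mkQ_surjective _) y).symm
  rw [← key, ← key]
  exact h

/-- The rank function is a difference of fibre dimensions of cokernels. -/
theorem dRank_add (hP : ∀ i, Module.Finite A (P.X i)) (hpq : q + 1 = p) (hpr : p + 1 = r) (x : PrimeSpectrum A) :
    CohIII.dRank P p x + fib (P.X q) x =
      fib (P.X p ⧸ range (P.d r p).hom) x + fib (P.X q ⧸ range (P.d p q).hom) x :=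
  haveI := hP p
  haveI := hP q
  finrank_bc_homology_add x.asIdeal.ResidueField hpq hpr

end Formula

theorem dRank_congr_fib {P : ChainComplex (ModuleCat.{u} A) ℤ} {p q : ℤ} (hpq : q + 1 = p)
    (x : PrimeSpectrum A)
    (hk : Injective ((ker (P.d p q).hom).subtype.lTensor x.asIdeal.ResidueField) ∧
      Exact ((ker (P.d p q).hom).subtype.lTensor x.asIdeal.ResidueField)
        ((P.d p q).hom.lTensor x.asIdeal.ResidueField)) :
    CohIII.dRank P p x = fib (P.homology p) x :=
  (bcEquiv x.asIdeal.ResidueField P hpq hk).finrank_eq.symm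

end Groth.Agent.FCx40
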